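import Groth.Agent.LocalDimBC.Smooth
import Groth.Agent.SmLocalST.SmoothField
import Groth.Agent.BlowUpLib.Basic
import Groth.Agent.BlowUpLib.Cartier
import Groth.Agent.CartierDim.Basic
import Groth.Agent.GeomRedAt.DimZero
import Groth.Agent.RelCartier.Basic
import Groth.Agent.S1570
import Groth.Agent.S1662
import Groth.Agent.S8847
import Mathlib

/-! # Effective Cartier divisors on smooth curves -/

set_option autoImplicit false
set_option linter.style.haveILetI false
set_option backward.isDefEq.respectTransparency false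

universe u

open CategoryTheory CategoryTheory.Limits AlgebraicGeometry TopologicalSpace

namespace Groth.Agent.HilbSum

variable {X S : Scheme.{u}} (f : X ⟶ S) [SmoothOfRelativeDimension 1 f]

/-- In a fibre of a smooth curve there are no chains of length two. -/
theorem no_chain {a b c : X} (hab : a ⤳ b) (hbc : b ⤳ c) (hne₁ : a ≠ b) (hne₂ : b ≠ c)
    (ha : f a = f c) (hb : f b = f c) : False := by
  have h : (2 : WithBot ℕ∞) ≤ FlatMor.fibreDimAt f c := by
    refine (Unibranch.natCast_le_fibreDimAt_iff f c (k := 2)).2 fun U hU => ?_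
    refine ⟨![a, b, c], fun i => ?_, fun i => ?_⟩
    · fin_cases i
      · exact ⟨(hab.trans hbc).mem_open U.2 hU, ha⟩
      · exact ⟨hbc.mem_open U.2 hU, hb⟩
      · exact ⟨hU, rfl⟩
    · fin_cases i
      · exact ⟨hab, hne₁⟩
      · exact ⟨hbc, hne₂⟩
  rw [LocalDimBC.fibreDimAt_of_smoothOfRelativeDimension 1 f c] at h
  exact absurd h (by decide)

/-- Every neighbourhood of a point of a smooth curve meets its fibre in two points in specialization. -/
theorem exists_chain (x : X) (U : X.Opens) (hU : x ∈ U) :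
    ∃ a b : X, a ∈ U ∧ b ∈ U ∧ f a = f x ∧ f b = f x ∧ a ⤳ b ∧ a ≠ b := by
  obtain ⟨c, hc, hc'⟩ := (Unibranch.natCast_le_fibreDimAt_iff f x (k := 1)).1
    (LocalDimBC.fibreDimAt_of_smoothOfRelativeDimension 1 f x).ge U hU
  exact ⟨c 0, c 1, (hc 0).1, (hc 1).1, (hc 0).2, (hc 1).2, (hc' 0).1, (hc' 0).2⟩

/-- The fibres of an effective Cartier divisor of a curve consist of closed points. -/
theorem locallyQuasiFinite_of_cartier (I : X.IdealSheafData) [LocallyOfFiniteType (I.subschemeι ≫ f)]
    (hI : BlowUp.IsEffCartierIdeal I) (hfl : Flat (I.subschemeι ≫ f)) :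
    LocallyQuasiFinite (I.subschemeι ≫ f) := by
  refine DimZero.locallyQuasiFinite_of_dim _ fun s => ?_
  have key : ∀ a b : ↥((I.subschemeι ≫ f).fiber s), a ⤳ b → a = b := by
    intro a b hab
    by_contra hne
    let ι' := (I.subschemeι ≫ f).fiberι s
    let q : ↥((I.subschemeι ≫ f).fiber s) → X := fun z => I.subschemeι (ι' z)
    have hq : ∀ z, f (q z) = s := fun z => by
      have h := (I.subschemeι ≫ f).range_fiberι s ▸ (Set.mem_range_self (f := ι') z)
      exact h
    have hinj : Function.Injective q := I.subschemeι.isEmbedding.injective.comp ι'.isEmbedding.injective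
    obtain ⟨v, hv⟩ : q a ∈ Set.range (f.fiberι s) := by rw [f.range_fiberι]; exact hq a
    haveI := hfl
    have hJ : BlowUp.IsEffCartierIdeal (I.comap (f.fiberι s)) :=
      Groth.Agent.S1662.result f I hI (S.fromSpecResidueField s)
    have hout := BlowUpLib.notMem_support_of_maximalPt hJ (x := v) fun y hy => by
      by_contra hyne
      refine no_chain f (hv ▸ hy.map (f.fiberι s).continuous : f.fiberι s y ⤳ q a)
        ((hab.map ι'.continuous).map I.subschemeι.continuous)
        (fun e => hyne ((f.fiberι s).isEmbedding.injective (e.trans hv.symm))) (fun e => hne (hinj e)) ?_ ?_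
      · rw [hq b]
        exact (f.range_fiberι s ▸ Set.mem_range_self (f := f.fiberι s) y : f.fiberι s y ∈ f ⁻¹' {s})
      · rw [hq a, hq b]
    rw [Scheme.IdealSheafData.support_comap] at hout
    refine hout ?_
    show f.fiberι s v ∈ I.support
    rw [hv, ← SetLike.mem_coe, ← I.range_subschemeι]
    exact ⟨_, rfl⟩
  rw [CartierDim.topDim_eq]
  refine Order.krullDim_nonpos_iff_forall_isMax.2 fun a b hab => ?_
  rw [key b a hab]

/-- Over a field: a quasi-finite closed subscheme of a smooth curve is a Cartier divisor. -/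
theorem cartier_of_field {k : Type u} [Field k] {Y : Scheme.{u}} (g : Y ⟶ Spec (CommRingCat.of k))
    [SmoothOfRelativeDimension 1 g] (J : Y.IdealSheafData)
    (hq : LocallyQuasiFinite (J.subschemeι ≫ g)) : BlowUp.IsEffCartierIdeal J := by
  haveI : Smooth g := SmoothOfRelativeDimension.smooth 1 g
  haveI : IsLocallyNoetherian Y := LocallyOfFiniteType.isLocallyNoetherian g
  refine Groth.Agent.S1570.result Y J fun x hx U hxU => ?_
  haveI := SmLocalST.isRegularLocalRing_stalk_of_smooth_field g x
  let R := Y.presheaf.stalk x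
  haveI := RegLoc.isDomain R
  have hdim : ringKrullDim R ≤ 1 := by
    rw [ringKrullDim_stalk_eq_coheight]
    refine WithBot.coe_le_coe.2 (Order.coheight_le fun p hp => ?_)
    by_contra hlen
    have hlen' : 2 ≤ p.length := by
      by_contra h'
      exact hlen (by exact_mod_cast (show p.length ≤ 1 by omega))
    have h0 : p ⟨1, by omega⟩ < p ⟨2, by omega⟩ := p.strictMono (Fin.mk_lt_mk.2 (by omega))
    have h1 : p ⟨0, by omega⟩ < p ⟨1, by omega⟩ := p.strictMono (Fin.mk_lt_mk.2 (by omega))
    exact no_chain g (le_of_lt h0 : p ⟨2, by omega⟩ ⤳ p ⟨1, by omega⟩) (le_of_lt h1 : p ⟨1, by omega⟩ ⤳ p ⟨0, by omega⟩)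
      (fun e => h0.not_ge (le_of_eq e)) (fun e => h1.not_ge (le_of_eq e))
      (Subsingleton.elim _ _) (Subsingleton.elim _ _)
  let P := (J.ideal U).map (Y.presheaf.germ U.1 x hxU).hom
  have hP : P ≠ ⊥ := by
    intro hbot
    -- then `J` vanishes near `x`, and a whole neighbourhood is in the support
    haveI := IsLocallyNoetherian.component_noetherian U
    obtain ⟨G, hG⟩ := (IsNoetherian.noetherian (J.ideal U) : (J.ideal U).FG)
    letI := TopCat.Presheaf.algebra_section_stalk Y.presheaf (⟨x, hxU⟩ : U.1)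
    haveI := U.2.isLocalization_stalk ⟨x, hxU⟩
    have hz : ∀ a ∈ G, ∃ s : (U.2.primeIdealOf ⟨x, hxU⟩).asIdeal.primeCompl, (s : Γ(Y, U.1)) * a = 0 := fun a ha => by
      refine (IsLocalization.map_eq_zero_iff (U.2.primeIdealOf ⟨x, hxU⟩).asIdeal.primeCompl R a).1 ?_
      exact (Submodule.mem_bot R).1 (hbot ▸ Ideal.mem_map_of_mem _ (hG ▸ Ideal.subset_span ha))
    choose s hs using hz
    classical
    let T : (U.2.primeIdealOf ⟨x, hxU⟩).asIdeal.primeCompl := ∏ a : G, s a.1 a.2
    have hann : ∀ a ∈ J.ideal U, (T : Γ(Y, U.1)) * a = 0 := fun a ha => by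
      rw [← hG] at ha
      induction ha using Submodule.span_induction with
      | mem a ha =>
        obtain ⟨c, hc⟩ : (s a ha : Γ(Y, U.1)) ∣ (T : Γ(Y, U.1)) := by
          simp only [T, Submonoid.coe_finsetProd]
          exact Finset.dvd_prod_of_mem (fun b : G => (s b.1 b.2 : Γ(Y, U.1))) (Finset.mem_univ ⟨a, ha⟩)
        rw [hc, mul_right_comm, hs a ha, zero_mul]
      | zero => rw [mul_zero]
      | add a b _ _ ha hb => rw [mul_add, ha, hb, add_zero]
      | smul c a _ ha => rw [smul_eq_mul, mul_left_comm, ha, mul_zero]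
    have hxW : x ∈ Y.basicOpen (T : Γ(Y, U.1)) :=
      (Groth.Agent.WeakAssLib.mem_primeIdealOf U.2 hxU _).2 T.2
    have hsub : ∀ y ∈ Y.basicOpen (T : Γ(Y, U.1)), y ∈ J.support := fun y hy => by
      have hyU : y ∈ U.1 := Y.basicOpen_le _ hy
      rw [Scheme.IdealSheafData.mem_support_iff_of_mem hyU, Scheme.mem_zeroLocus_iff]
      intro a ha hya
      have : y ∈ Y.basicOpen ((T : Γ(Y, U.1)) * a) := by rw [Scheme.basicOpen_mul]; exact ⟨hy, hya⟩
      rw [hann a ha, Scheme.basicOpen_zero] at this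
      exact this
    obtain ⟨a, b, ha, hb, -, -, hab, hne⟩ := exists_chain g x _ hxW
    obtain ⟨a', rfl⟩ : a ∈ Set.range J.subschemeι := by rw [Scheme.IdealSheafData.range_subschemeι]; exact hsub a ha
    obtain ⟨b', rfl⟩ : b ∈ Set.range J.subschemeι := by rw [Scheme.IdealSheafData.range_subschemeι]; exact hsub b hb
    have hab' : a' ⤳ b' := J.subschemeι.isEmbedding.isInducing.specializes_iff.1 hab
    haveI := hq
    have hd := (J.subschemeι ≫ g).isDiscrete_preimage_singleton ((J.subschemeι ≫ g) b')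
    haveI := hd.to_subtype
    have h2 : (⟨a', Subsingleton.elim _ _⟩ : ↥((J.subschemeι ≫ g) ⁻¹' {(J.subschemeι ≫ g) b'})) ⤳ ⟨b', rfl⟩ :=
      (subtype_specializes_iff _ _).2 hab'
    exact hne (congrArg (fun z => J.subschemeι z.1) h2.eq)
  haveI : IsPrincipalIdealRing R := by
    refine ((tfae_of_isNoetherianRing_of_isLocalRing_of_isDomain (R := R)).out 4 0).1 ?_
    have h : ((IsLocalRing.maximalIdeal R).spanFinrank : WithBot ℕ∞) ≤ ((1 : ℕ) : WithBot ℕ∞) := by
      rw [IsRegularLocalRing.spanFinrank_maximalIdeal (R := R)]; exact_mod_cast hdim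
    have h' : (IsLocalRing.maximalIdeal R).spanFinrank ≤ 1 := by exact_mod_cast h
    rcases Nat.le_one_iff_eq_zero_or_eq_one.1 h' with h0 | h1
    · rw [Submodule.spanFinrank_eq_zero_iff_eq_bot (IsNoetherian.noetherian _)] at h0
      exact h0 ▸ inferInstance
    · exact ((Submodule.spanFinrank_eq_one_iff _).1 h1).1
  obtain ⟨c, hc⟩ : ∃ c, P = Ideal.span {c} := ⟨_, (Ideal.span_singleton_generator P).symm⟩
  exact ⟨c, mem_nonZeroDivisors_of_ne_zero fun h0 => hP (by rw [hc, h0, Ideal.span_singleton_eq_bot]), hc⟩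

end Groth.Agent.HilbSum
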