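import Groth.Agent.HilbSum.Alg
import Groth.Agent.HilbSum.Cartier
import Groth.Agent.GrpdFit.Ideal
import Groth.Agent.ClSubLib.Basic
import Groth.Agent.CycSub.Local
import Groth.Agent.GenDegree.Basic
import Groth.Agent.S1702
import Groth.Prelude.Def_Mor2
import Mathlib

/-! # Sums of relative divisors on smooth curves -/

set_option autoImplicit false
set_option linter.style.haveILetI false
set_option backward.isDefEq.respectTransparency false

universe u

open CategoryTheory CategoryTheory.Limits AlgebraicGeometry TopologicalSpace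

namespace Groth.Agent.HilbSum

variable {X S : Scheme.{u}} (f : X ⟶ S) [SmoothOfRelativeDimension 1 f]

theorem lfp_of_cartier (I : X.IdealSheafData) (hI : BlowUp.IsEffCartierIdeal I) :
    LocallyOfFinitePresentation (I.subschemeι ≫ f) := by
  haveI : Smooth f := SmoothOfRelativeDimension.smooth 1 f
  haveI := GrpdFit.lfp_subschemeι I fun x => by
    obtain ⟨U, hxU, g, -, hg⟩ := hI x
    exact ⟨U, hxU, hg ▸ Submodule.fg_span_singleton g⟩
  infer_instance

/-- base change of a closed subscheme of the source -/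
theorem isPullback_comap {T : Scheme.{u}} (I : X.IdealSheafData) (g : T ⟶ S) :
    IsPullback ((I.comapIso (pullback.fst f g)).hom ≫ pullback.snd (pullback.fst f g) I.subschemeι)
      ((I.comap (pullback.fst f g)).subschemeι ≫ pullback.snd f g) (I.subschemeι ≫ f) g := by
  have h1 := (IsPullback.of_hasPullback (pullback.fst f g) I.subschemeι).flip
  have h := h1.paste_vert (IsPullback.of_hasPullback f g)
  refine IsPullback.of_iso h (I.comapIso (pullback.fst f g)).symm (Iso.refl _) (Iso.refl _) (Iso.refl _)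
    (by simp [-Scheme.IdealSheafData.comapIso_hom_snd]) (by simp) (by simp) (by simp)

theorem smooth_fibre (s : S) : SmoothOfRelativeDimension 1 (f.fiberToSpecResidueField s) :=
  haveI := smoothOfRelativeDimension_isStableUnderBaseChange (n := 1)
  MorphismProperty.pullback_snd (P := @SmoothOfRelativeDimension 1) _ _ inferInstance

theorem cartier_fibre (I : X.IdealSheafData) (hq : LocallyQuasiFinite (I.subschemeι ≫ f)) (s : S) :
    BlowUp.IsEffCartierIdeal (I.comap (f.fiberι s)) := by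
  haveI := smooth_fibre f s
  refine cartier_of_field (f.fiberToSpecResidueField s) _ ?_
  exact MorphismProperty.of_isPullback (P := @LocallyQuasiFinite) (isPullback_comap f I (S.fromSpecResidueField s)) hq

theorem cartier_of_lqf (I : X.IdealSheafData) (hq : LocallyQuasiFinite (I.subschemeι ≫ f))
    (hfl : Flat (I.subschemeι ≫ f)) (hfp : LocallyOfFinitePresentation (I.subschemeι ≫ f)) :
    BlowUp.IsEffCartierIdeal I := by
  haveI : Smooth f := SmoothOfRelativeDimension.smooth 1 f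
  haveI := hfl
  haveI := hfp
  exact Groth.Agent.S8847.result f I fun s => cartier_fibre f I hq s

/-- finite locally free subschemes are relative effective Cartier divisors -/
theorem rel_of_finLocFree (I : X.IdealSheafData) (h : Mor2.IsFinLocFree (I.subschemeι ≫ f)) :
    BlowUp.IsEffCartierIdeal I ∧ Flat (I.subschemeι ≫ f) := by
  obtain ⟨hfin, hfl, hfp⟩ := h
  haveI := hfin
  exact ⟨cartier_of_lqf f I inferInstance hfl hfp, hfl⟩

theorem iff_lqf (I : X.IdealSheafData) :
    (BlowUp.IsEffCartierIdeal I ∧ Flat (I.subschemeι ≫ f)) ↔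
      (LocallyQuasiFinite (I.subschemeι ≫ f) ∧ Flat (I.subschemeι ≫ f) ∧ LocallyOfFinitePresentation (I.subschemeι ≫ f)) := by
  refine ⟨fun ⟨hI, hfl⟩ => ?_, fun ⟨hq, hfl, hfp⟩ => ⟨cartier_of_lqf f I hq hfl hfp, hfl⟩⟩
  haveI := lfp_of_cartier f I hI
  exact ⟨locallyQuasiFinite_of_cartier f I hI hfl, hfl, inferInstance⟩

theorem isFinite_mul (I₁ I₂ : X.IdealSheafData) (h₁ : IsFinite (I₁.subschemeι ≫ f)) (h₂ : IsFinite (I₂.subschemeι ≫ f))
    (hq : LocallyQuasiFinite ((I₁ * I₂).subschemeι ≫ f)) : IsFinite ((I₁ * I₂).subschemeι ≫ f) := by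
  haveI : Smooth f := SmoothOfRelativeDimension.smooth 1 f
  haveI := h₁
  haveI := h₂
  haveI := hq
  have p₁ := ClSubLib.isProperOver_range f I₁.subschemeι
  have p₂ := ClSubLib.isProperOver_range f I₂.subschemeι
  haveI : IsProper ((I₁ * I₂).subschemeι ≫ f) := by
    refine ClSubLib.isProper_comp f _ (ClSubLib.isProperOver_union f p₁ p₂) ?_
    rw [Scheme.IdealSheafData.range_subschemeι, Scheme.IdealSheafData.range_subschemeι,
      Scheme.IdealSheafData.range_subschemeι, Scheme.IdealSheafData.support_mul]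
    rfl
  exact IsFinite.of_isProper_of_locallyQuasiFinite _

/-- stalk ideal of a pullback -/
theorem stI_comap {Z Y : Scheme.{u}} (ι : Z ⟶ Y) (J : Y.IdealSheafData) (z : Z) {U : Y.affineOpens} (hU : ι z ∈ U.1)
    {W : Z.affineOpens} (hW : z ∈ W.1) (hWU : W.1 ≤ ι ⁻¹ᵁ U.1) :
    RelCartier.stI (J.comap ι) hW = (RelCartier.stI J hU).map (ι.stalkMap z).hom := by
  rw [RelCartier.stI, RelCartier.stI, FittLib.comap_ideal ι J U.2 W.2 hWU, Ideal.map_map, Ideal.map_map]
  congr 1
  exact RingHom.ext fun a => (FibCrit.germ_comm ι U.1 W.1 hWU z hW a).symm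

/-- degrees add up over a field -/
theorem finrank_mul_field {k : Type u} [Field k] {Y : Scheme.{u}} (g : Y ⟶ Spec (CommRingCat.of k))
    (J₁ J₂ : Y.IdealSheafData) (hJ₁ : BlowUp.IsEffCartierIdeal J₁) (hJ₂ : BlowUp.IsEffCartierIdeal J₂)
    [IsFinite ((J₁ * J₂).subschemeι ≫ g)] [IsFinite (J₁.subschemeι ≫ g)] [IsFinite (J₂.subschemeι ≫ g)]
    (s : Spec (CommRingCat.of k)) :
    ((J₁ * J₂).subschemeι ≫ g).finrank s = (J₁.subschemeι ≫ g).finrank s + (J₂.subschemeι ≫ g).finrank s := by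
  let Z := (J₁ * J₂).subscheme
  let ι : Z ⟶ Y := (J₁ * J₂).subschemeι
  let q : Z ⟶ Spec (CommRingCat.of k) := ι ≫ g
  haveI : IsFinite q := ‹IsFinite ((J₁ * J₂).subschemeι ≫ g)›
  haveI : IsAffine Z := isAffine_of_isAffineHom q
  let C := Γ(Z, ⊤)
  letI : Algebra k C := ((Scheme.ΓSpecIso (CommRingCat.of k)).inv ≫ q.appTop).hom.toAlgebra
  have hkC : Module.Finite k C := by
    have h1 : ((Scheme.ΓSpecIso (CommRingCat.of k)).inv ≫ q.appTop).hom.Finite :=
      q.finite_appTop.comp (RingHom.Finite.of_surjective _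
        (ConcreteCategory.bijective_of_isIso (Scheme.ΓSpecIso (CommRingCat.of k)).inv).surjective)
    exact h1
  let T : Z.affineOpens := ⟨⊤, isAffineOpen_top Z⟩
  have quot : ∀ J : Y.IdealSheafData, J₁ * J₂ ≤ J → IsFinite (J.subschemeι ≫ g) →
      (J.subschemeι ≫ g).finrank s = Module.finrank k (C ⧸ (J.comap ι).ideal T) := by
    intro J hle hfin
    let L := J.comap ι
    let j := Scheme.IdealSheafData.inclusion hle
    have hj : j ≫ ι = J.subschemeι := Scheme.IdealSheafData.inclusion_subschemeι hle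
    have hpb : IsPullback j (𝟙 _) ι J.subschemeι := by
      refine IsPullback.of_isLimit' ⟨by rw [hj, Category.id_comp]⟩ (PullbackCone.IsLimit.mk _ (fun c => c.snd)
        (fun c => ?_) (fun c => Category.comp_id _) (fun c m h1 h2 => by rw [← h2]; exact (Category.comp_id _).symm))
      rw [← cancel_mono ι, Category.assoc, hj]
      exact c.condition.symm
    let e : L.subscheme ≅ J.subscheme := J.comapIso ι ≪≫ hpb.isoPullback.symm
    have he : e.hom ≫ J.subschemeι = L.subschemeι ≫ ι := by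
      show ((J.comapIso ι).hom ≫ hpb.isoPullback.inv) ≫ J.subschemeι = _
      have h3 : ((J.comapIso ι).hom ≫ hpb.isoPullback.inv) ≫ J.subschemeι =
          ((J.comapIso ι).hom ≫ hpb.isoPullback.inv ≫ j) ≫ ι := by
        simp only [Category.assoc]
        exact congrArg (fun t => (J.comapIso ι).hom ≫ hpb.isoPullback.inv ≫ t) hj.symm
      rw [h3, IsPullback.isoPullback_inv_fst, Scheme.IdealSheafData.comapIso_hom_fst]
    haveI := hfin
    haveI : IsFinite (L.subschemeι ≫ q) := inferInstance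
    haveI : Flat (J.subschemeι ≫ g) := inferInstance
    have h2 : L.subschemeι ≫ q = e.hom ≫ J.subschemeι ≫ g := by rw [reassoc_of% he]
    rw [← Scheme.Hom.finrank_comp_left_of_isIso e.hom (J.subschemeι ≫ g), ← h2,
      GenDegree.finrank_eq_finrank_sections (L.subschemeι ≫ q) s]
    letI : Algebra k Γ(L.subscheme, ⊤) := ((Scheme.ΓSpecIso (CommRingCat.of k)).inv ≫ (L.subschemeι ≫ q).appTop).hom.toAlgebra
    let π : C →ₐ[k] Γ(L.subscheme, ⊤) :=
      { (L.subschemeι.appTop).hom with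
        commutes' := fun r => by
          show L.subschemeι.appTop (((Scheme.ΓSpecIso (CommRingCat.of k)).inv ≫ q.appTop) r) = _
          rfl }
    have hπ : Function.Surjective π := L.subschemeι_app_surjective T
    have hkerπ : RingHom.ker π.toRingHom = L.ideal T := L.ker_subschemeι_app T
    exact ((Ideal.quotientEquivAlgOfEq k hkerπ.symm).trans
      (Ideal.quotientKerAlgEquivOfSurjective (f := π) hπ)).toLinearEquiv.finrank_eq.symm
  have hle₁ : J₁ * J₂ ≤ J₁ := fun U => by
    rw [Scheme.IdealSheafData.ideal_mul, Pi.mul_apply]; exact Ideal.mul_le_left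
  have hle₂ : J₁ * J₂ ≤ J₂ := fun U => by
    rw [Scheme.IdealSheafData.ideal_mul, Pi.mul_apply]; exact Ideal.mul_le_right
  rw [quot J₁ hle₁ inferInstance, quot J₂ hle₂ inferInstance, GenDegree.finrank_eq_finrank_sections ((J₁ * J₂).subschemeι ≫ g) s]
  haveI := hkC
  refine finrank_add_of_local _ _ fun m hm => ?_
  let z : Z := T.2.fromSpec ⟨m, inferInstance⟩
  let x := ι z
  obtain ⟨U₁, hxU₁, a₁, ha₁, e₁⟩ := hJ₁ x
  obtain ⟨U, hxU, hUU, b, hb, e₂⟩ := BlowUpLib.exists_small_generator hJ₂ hxU₁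
  obtain ⟨a, ha, e₁'⟩ := BlowUpLib.exists_generator_of_le J₁ (show U ≤ U₁ from hUU) ha₁ e₁
  obtain ⟨W, hW, hzW, hWU⟩ := exists_isAffineOpen_mem_and_subset (X := Z) (x := z) (U := ι ⁻¹ᵁ U.1) hxU
  let gx := (Y.presheaf.germ U.1 x hxU).hom
  let ψ := (ι.stalkMap z).hom
  have hst : ∀ (J : Y.IdealSheafData) (c : Γ(Y, U.1)), J.ideal U = Ideal.span {c} →
      RelCartier.stI (J.comap ι) (W := T) (x := z) trivial = Ideal.span {ψ (gx c)} := fun J c hc => by
    rw [RelCartier.stI_eq (J.comap ι) (U := T) (W := ⟨W, hW⟩) trivial hzW, stI_comap ι J z hxU hzW hWU,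
      RelCartier.stI, hc, Ideal.map_span, Set.image_singleton, Ideal.map_span, Set.image_singleton]
  have hreg : IsSMulRegular (Y.presheaf.stalk x) (gx a) := by
    letI := TopCat.Presheaf.algebra_section_stalk Y.presheaf (⟨x, hxU⟩ : U.1)
    haveI := U.2.isLocalization_stalk ⟨x, hxU⟩
    exact IsSMulRegular.of_isLocalization (Y.presheaf.stalk x) (U.2.primeIdealOf ⟨x, hxU⟩).asIdeal.primeCompl
      fun c d hcd => sub_eq_zero.1 ((mem_nonZeroDivisors_iff.1 ha).1 _ (by simp only [smul_eq_mul] at hcd; rw [mul_sub, hcd, sub_self]))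
  have hker : RingHom.ker ψ = Ideal.span {gx (a * b)} := by
    refine (CycSub.ker_stalkMap (J₁ * J₂) z (U := U) hxU).trans ?_
    rw [CycSub.stalkIdeal, Scheme.IdealSheafData.ideal_mul, Pi.mul_apply, e₁', e₂, Ideal.span_singleton_mul_span_singleton,
      Ideal.map_span, Set.image_singleton]
  -- transport to the localisation
  let R := Z.presheaf.stalk z
  letI := TopCat.Presheaf.algebra_section_stalk Z.presheaf (⟨z, trivial⟩ : (⊤ : Z.Opens))
  haveI hloc := T.2.isLocalization_stalk ⟨z, trivial⟩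
  have hm' : T.2.primeIdealOf ⟨z, trivial⟩ = ⟨m, inferInstance⟩ :=
    T.2.fromSpec.isOpenEmbedding.injective (T.2.fromSpec_primeIdealOf _)
  rw [hm'] at hloc
  haveI := hloc
  let ε : R ≃ₐ[C] Localization.AtPrime m := IsLocalization.algEquiv m.primeCompl R (Localization.AtPrime m)
  have htr : ∀ K : Ideal C, K.map (algebraMap C (Localization.AtPrime m)) = (K.map (algebraMap C R)).map ε.toRingEquiv.toRingHom :=
    fun K => by
      rw [Ideal.map_map]
      congr 1
      exact RingHom.ext fun c => (ε.commutes c).symm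
  refine ⟨ε (ψ (gx a)), ε (ψ (gx b)), ?_, ?_, ?_, fun c hc => ?_⟩
  · rw [htr]
    show (RelCartier.stI (J₁.comap ι) (W := T) (x := z) trivial).map _ = _
    rw [hst J₁ a e₁', Ideal.map_span, Set.image_singleton]
    rfl
  · rw [htr]
    show (RelCartier.stI (J₂.comap ι) (W := T) (x := z) trivial).map _ = _
    rw [hst J₂ b e₂, Ideal.map_span, Set.image_singleton]
    rfl
  · rw [← map_mul, ← map_mul, ← map_mul, show ψ (gx (a * b)) = 0 from (RingHom.mem_ker).1 (hker.ge (Ideal.mem_span_singleton_self _)), map_zero]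
  · obtain ⟨c, rfl⟩ := ε.surjective c
    obtain ⟨c, rfl⟩ : ∃ c', ψ c' = c := (J₁ * J₂).subschemeι.stalkMap_surjective z c
    rw [← map_mul, map_eq_zero_iff _ ε.injective, ← map_mul, ← RingHom.mem_ker, hker, Ideal.mem_span_singleton'] at hc
    obtain ⟨r, hr⟩ := hc
    have hcb : c = r * gx b := hreg (by
      simp only [smul_eq_mul]
      rw [map_mul] at hr
      linear_combination -hr)
    rw [Ideal.mem_span_singleton']
    exact ⟨ε (ψ r), by rw [← map_mul, ← map_mul, hcb]⟩

theorem finrank_mul (I₁ I₂ : X.IdealSheafData) (h₁ : Mor2.IsFinLocFree (I₁.subschemeι ≫ f))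
    (h₂ : Mor2.IsFinLocFree (I₂.subschemeι ≫ f)) (h : Mor2.IsFinLocFree ((I₁ * I₂).subschemeι ≫ f)) (s : S) :
    ((I₁ * I₂).subschemeι ≫ f).finrank s = (I₁.subschemeι ≫ f).finrank s + (I₂.subschemeι ≫ f).finrank s := by
  let g := f.fiberToSpecResidueField s
  let J₁ := I₁.comap (f.fiberι s)
  let J₂ := I₂.comap (f.fiberι s)
  let p : Spec (S.residueField s) := IsLocalRing.closedPoint (S.residueField s)
  have hp : S.fromSpecResidueField s p = s := S.fromSpecResidueField_apply s p
  have key : ∀ I : X.IdealSheafData, Mor2.IsFinLocFree (I.subschemeι ≫ f) →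
      IsFinite ((I.comap (f.fiberι s)).subschemeι ≫ g) ∧
        ((I.comap (f.fiberι s)).subschemeι ≫ g).finrank p = (I.subschemeι ≫ f).finrank s := by
    rintro I ⟨hfin, hfl, hfp⟩
    haveI := hfin
    haveI := hfl
    have sq := isPullback_comap f I (S.fromSpecResidueField s)
    refine ⟨MorphismProperty.of_isPullback (P := @IsFinite) sq hfin, ?_⟩
    exact (Scheme.Hom.finrank_of_isPullback _ _ _ _ sq p).trans (congrArg _ hp)
  obtain ⟨f₁, r₁⟩ := key I₁ h₁
  obtain ⟨f₂, r₂⟩ := key I₂ h₂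
  obtain ⟨f₁₂, r₁₂⟩ := key _ h
  rw [← r₁, ← r₂, ← r₁₂]
  rw [BlowUpLib.comap_mul] at f₁₂ ⊢
  haveI := f₁
  haveI := f₂
  haveI := f₁₂
  haveI : LocallyQuasiFinite (I₁.subschemeι ≫ f) := by haveI := h₁.1; infer_instance
  haveI : LocallyQuasiFinite (I₂.subschemeι ≫ f) := by haveI := h₂.1; infer_instance
  exact finrank_mul_field (k := S.residueField s) g J₁ J₂ (cartier_fibre f I₁ inferInstance s) (cartier_fibre f I₂ inferInstance s) p

theorem finLocFree_mul (I₁ I₂ : X.IdealSheafData) (d₁ d₂ : ℕ) (h₁ : Mor2.IsFinLocFreeOfDeg d₁ (I₁.subschemeι ≫ f))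
    (h₂ : Mor2.IsFinLocFreeOfDeg d₂ (I₂.subschemeι ≫ f)) :
    Mor2.IsFinLocFreeOfDeg (d₁ + d₂) ((I₁ * I₂).subschemeι ≫ f) := by
  have hc := Groth.Agent.S1702.result f I₁ I₂ (rel_of_finLocFree f I₁ h₁.1) (rel_of_finLocFree f I₂ h₂.1)
  obtain ⟨hq, hfl, hfp⟩ := (iff_lqf f _).1 hc
  have h : Mor2.IsFinLocFree ((I₁ * I₂).subschemeι ≫ f) := ⟨isFinite_mul f I₁ I₂ h₁.1.1 h₂.1.1 hq, hfl, hfp⟩
  exact ⟨h, fun s => by rw [finrank_mul f I₁ I₂ h₁.1 h₂.1 h s, h₁.2, h₂.2]⟩

end Groth.Agent.HilbSum
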