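import Groth.Agent.HilbSum.SmoothH
import Groth.Agent.SymCurve.Main
import Groth.Agent.Bootstrap.Tools
import Groth.Agent.QuotScheme.Basic
import Groth.Agent.S1166
import Groth.Prelude.Def_SymProd
import Mathlib

/-! # The symmetric power of a curve represents the Hilbert functor of points -/

set_option autoImplicit false
set_option linter.style.haveILetI false
set_option backward.isDefEq.respectTransparency false
set_option maxHeartbeats 1000000

universe u

open CategoryTheory CategoryTheory.Limits AlgebraicGeometry TopologicalSpace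

namespace Groth.Agent.HilbSum

open scoped TensorProduct

/-- the rank of a composite of finite flat morphisms over a field -/
theorem finrank_comp_field {k : Type u} [Field k] {X Y : Scheme.{u}} (f : X ⟶ Y) (q : Y ⟶ Spec (CommRingCat.of k))
    [IsFinite f] [Flat f] [IsFinite q] {d : ℕ} (hd : ∀ y, f.finrank y = d) (s : ↥(Spec (CommRingCat.of k))) :
    (f ≫ q).finrank s = d * q.finrank s := by
  haveI : IsAffine Y := isAffine_of_isAffineHom q
  haveI : IsAffine X := isAffine_of_isAffineHom f
  obtain ⟨R, ⟨eY⟩⟩ : ∃ R : CommRingCat.{u}, Nonempty (Spec R ≅ Y) := ⟨_, ⟨Y.isoSpec.symm⟩⟩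
  obtain ⟨C, ⟨eX⟩⟩ : ∃ C : CommRingCat.{u}, Nonempty (Spec C ≅ X) := ⟨_, ⟨X.isoSpec.symm⟩⟩
  let ψ := Spec.preimage (eX.hom ≫ f ≫ eY.inv)
  let θ := Spec.preimage (eY.hom ≫ q)
  have hψ : Spec.map ψ = eX.hom ≫ f ≫ eY.inv := Spec.map_preimage _
  have hθ : Spec.map θ = eY.hom ≫ q := Spec.map_preimage _
  letI : Algebra R C := ψ.hom.toAlgebra
  letI : Algebra k R := θ.hom.toAlgebra
  letI : Algebra k C := (ψ.hom.comp θ.hom).toAlgebra
  haveI : IsScalarTower k R C := IsScalarTower.of_algebraMap_eq fun _ => rfl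
  haveI : IsFinite (Spec.map ψ) := by rw [hψ]; infer_instance
  haveI : Flat (Spec.map ψ) := by rw [hψ]; infer_instance
  haveI : IsFinite (Spec.map θ) := by rw [hθ]; infer_instance
  haveI : Module.Finite R C := (IsFinite.SpecMap_iff _).1 ‹IsFinite (Spec.map ψ)›
  haveI : Module.Flat R C := Flat.SpecMap_iff.1 ‹Flat (Spec.map ψ)›
  haveI : Module.Finite k R := (IsFinite.SpecMap_iff _).1 ‹IsFinite (Spec.map θ)›
  haveI : Module.Finite k C := Module.Finite.trans R C
  haveI : IsArtinianRing R := IsArtinianRing.of_finite k R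
  have hdR : ∀ p : PrimeSpectrum R, Module.rankAtStalk (R := R) C p = d := fun p => by
    rw [← Scheme.Hom.finrank_SpecMap_algebraMap R C p]
    have hsq : IsPullback eX.hom (Spec.map ψ) f eY.hom := IsPullback.of_horiz_isIso ⟨by rw [hψ]; simp⟩
    exact (Scheme.Hom.finrank_of_isPullback _ _ _ _ hsq p).trans (hd _)
  haveI : Finite (MaximalSpectrum R) := inferInstance
  haveI hfree : Module.Free R C := Module.free_of_flat_of_finrank_eq R C d fun P => by
    letI := Ideal.Quotient.field P.1
    let p : PrimeSpectrum (R ⧸ P.1) := ⟨⊥, Ideal.isPrime_bot⟩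
    rw [← hdR (p.comap (algebraMap R (R ⧸ P.1))), ← Module.rankAtStalk_baseChange,
      Module.rankAtStalk_eq_finrank_of_free]
    rfl
  have key : ∀ (D : Type u) [CommRing D] [Algebra k D] [Module.Finite k D] (t : PrimeSpectrum k),
      Scheme.Hom.finrank (Spec.map (CommRingCat.ofHom (algebraMap k D))) t = Module.finrank k D := fun D _ _ _ t => by
    rw [Scheme.Hom.finrank_SpecMap_algebraMap, Module.rankAtStalk_eq_finrank_of_free]
    rfl
  have hq : q.finrank s = Module.finrank k R := by
    have hsq : IsPullback eY.hom (Spec.map θ) q (𝟙 _) := IsPullback.of_horiz_isIso ⟨by rw [hθ]; simp⟩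
    exact (Scheme.Hom.finrank_of_isPullback _ _ _ _ hsq s).symm.trans (key R s)
  have hfq : (f ≫ q).finrank s = Module.finrank k C := by
    have hsq : IsPullback eX.hom (Spec.map (θ ≫ ψ)) (f ≫ q) (𝟙 _) :=
      IsPullback.of_horiz_isIso ⟨by rw [Spec.map_comp, hψ, hθ]; simp⟩
    haveI : Flat (f ≫ q) := inferInstance
    exact (Scheme.Hom.finrank_of_isPullback _ _ _ _ hsq s).symm.trans (key C s)
  rw [hq, hfq]
  rcases subsingleton_or_nontrivial R with hR | hR
  · haveI := Module.subsingleton R C
    rw [Module.finrank_zero_of_subsingleton, Module.finrank_zero_of_subsingleton, mul_zero]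
  · have hdC : Module.finrank R C = d := by
      obtain ⟨p⟩ : Nonempty (PrimeSpectrum R) := inferInstance
      rw [← hdR p, Module.rankAtStalk_eq_finrank_of_free]
      rfl
    rw [← Module.finrank_mul_finrank k R C, hdC, mul_comm]

/-- ranks multiply in composites -/
theorem finrank_comp_const {A B C : Scheme.{u}} (q : A ⟶ B) (φ : B ⟶ C) [IsFinite q] [Flat q] [IsFinite φ] [Flat φ]
    {a : ℕ} (ha : ∀ y, q.finrank y = a) (y : C) : (q ≫ φ).finrank y = a * φ.finrank y := by
  let i := C.fromSpecResidueField y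
  have sq1 := IsPullback.of_hasPullback φ i
  have sq2 := IsPullback.of_hasPullback q (pullback.fst φ i)
  let p : Spec (C.residueField y) := IsLocalRing.closedPoint (C.residueField y)
  have hp : i p = y := C.fromSpecResidueField_apply y p
  haveI : IsFinite (pullback.snd q (pullback.fst φ i)) := inferInstance
  haveI : IsFinite (pullback.snd φ i) := inferInstance
  have h1 : (pullback.snd φ i).finrank p = φ.finrank y :=
    (Scheme.Hom.finrank_of_isPullback _ _ _ _ sq1 p).trans (congrArg _ hp)
  have h2 : (pullback.snd q (pullback.fst φ i) ≫ pullback.snd φ i).finrank p = (q ≫ φ).finrank y :=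
    (Scheme.Hom.finrank_of_isPullback _ _ _ _ ((IsPullback.of_hasPullback q (pullback.fst φ i)).paste_vert sq1) p).trans
      (congrArg _ hp)
  rw [← h1, ← h2]
  exact finrank_comp_field _ _ (fun b => (Scheme.Hom.finrank_of_isPullback _ _ _ _ sq2 b).trans (ha _)) p

theorem comp_deg {A B C : Scheme.{u}} (q : A ⟶ B) (φ : B ⟶ C) {a b : ℕ} (hq : Mor2.IsFinLocFreeOfDeg a q)
    (hφ : Mor2.IsFinLocFreeOfDeg b φ) : Mor2.IsFinLocFreeOfDeg (a * b) (q ≫ φ) := by
  obtain ⟨⟨h1, h2, h3⟩, hd⟩ := hq
  obtain ⟨⟨k1, k2, k3⟩, kd⟩ := hφ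
  haveI := h1; haveI := h2; haveI := h3; haveI := k1; haveI := k2; haveI := k3
  exact ⟨⟨inferInstance, inferInstance, inferInstance⟩, fun y => by rw [finrank_comp_const q φ hd y, kd]⟩

theorem deg_one_of_isIso {A B : Scheme.{u}} (q : A ⟶ B) [IsIso q] : Mor2.IsFinLocFreeOfDeg 1 q :=
  ⟨⟨inferInstance, inferInstance, inferInstance⟩, fun y => congrFun (Scheme.Hom.finrank_eq_one_of_isIso q) y⟩

variable {X S : Scheme.{u}} (f : X ⟶ S) [SmoothOfRelativeDimension 1 f] [IsSeparated f]

theorem prod_secGraph_mem (T : Over S) : ∀ (n : ℕ) (x : Fin n → {x : T.left ⟶ X // x ≫ f = T.hom}),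
    Mor2.IsFinLocFreeOfDeg n ((∏ i, HilbD.secGraph f T (x i).1 (x i).2).subschemeι ≫ PicF.XTproj f T)
  | 0, x => by
    rw [Finset.prod_of_isEmpty]
    exact top_mem_zero f T
  | n + 1, x => by
    haveI := smooth_XTproj f T
    rw [Fin.prod_univ_succ]
    have h := finLocFree_mul (pullback.snd f T.hom) _ _ 1 n (HilbOne.secGraph_mem f T (x 0).1 (x 0).2)
      (prod_secGraph_mem T n fun i => x i.succ)
    rwa [Nat.add_comm 1 n] at h

omit [SmoothOfRelativeDimension 1 f] in
theorem pull_prod {T T' : Over S} (g : T' ⟶ T) {n : ℕ} (x : Fin n → {x : T.left ⟶ X // x ≫ f = T.hom}) :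
    HilbD.pull f g (∏ i, HilbD.secGraph f T (x i).1 (x i).2) =
      ∏ i, HilbD.secGraph f T' (g.left ≫ (x i).1) (by rw [Category.assoc, (x i).2]; exact Over.w g) := by
  induction n with
  | zero =>
    rw [Finset.prod_of_isEmpty, Finset.prod_of_isEmpty]
    exact eq_top_of_deg_zero _ (HilbOne.mem_pull f 0 g _ (top_mem_zero f T))
  | succ n ih =>
    rw [Fin.prod_univ_succ, HilbOne.pull_eq_comap, BlowUpLib.comap_mul, ← HilbOne.pull_eq_comap,
      ← HilbOne.pull_eq_comap, HilbOne.pull_secGraph, ih, Fin.prod_univ_succ]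

/-- the fibre power as a scheme over `S` -/
noncomputable abbrev powOver (n : ℕ) : Over S := Over.mk (WidePullback.base fun _ : Fin n => f)

/-- the tautological sections over the fibre power -/
noncomputable abbrev tautSec (n : ℕ) (i : Fin n) : {x : (powOver f n).left ⟶ X // x ≫ f = (powOver f n).hom} :=
  ⟨WidePullback.π (fun _ : Fin n => f) i, WidePullback.π_arrow (fun _ : Fin n => f) i⟩

/-- the sum of the tautological sections -/
noncomputable abbrev tautDiv (n : ℕ) : (PicF.XT f (powOver f n)).IdealSheafData :=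
  ∏ i, HilbD.secGraph f (powOver f n) (tautSec f n i).1 (tautSec f n i).2

/-- The map classifying the sum of the tautological sections has degree `n!`. -/
theorem classifying_deg (hrep : ∀ e : ℕ, HilbD.Representable f e) : ∀ (n : ℕ) (H : Over S) (Z : HilbD.Obj f n H),
    HilbD.IsUniversal f n H Z → ∀ (u : powOver f n ⟶ H), HilbD.pull f u Z.1 = tautDiv f n →
      Mor2.IsFinLocFreeOfDeg n.factorial u.left
  | 0, H, Z, hZ, u, _ => by
    haveI := isIso_of_universal_zero f H Z hZ
    haveI : IsIso (powOver f 0).hom := SymProdLib.isIso_base_zero f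
    haveI : IsIso (u.left ≫ H.hom) := by rw [Over.w u]; infer_instance
    haveI : IsIso u.left := IsIso.of_isIso_comp_right u.left H.hom
    exact deg_one_of_isIso _
  | n + 1, H', Z', hZ', u, hu => by
    obtain ⟨H, Z, hZ⟩ := hrep n
    obtain ⟨v, hv, -⟩ := hZ (powOver f n) ⟨tautDiv f n, prod_secGraph_mem f _ n _⟩
    have hvd := classifying_deg hrep n H Z hZ v hv
    let P : Over S := Over.mk (pullback.fst H.hom f ≫ H.hom)
    let h : P ⟶ H := Over.homMk (pullback.fst H.hom f) rfl
    let x : P.left ⟶ X := pullback.snd H.hom f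
    have hx : x ≫ f = P.hom := pullback.condition.symm
    haveI := smooth_XTproj f P
    obtain ⟨m, hm, -⟩ := hZ' P ⟨_, finLocFree_mul (pullback.snd f P.hom) _ _ n 1 (HilbOne.mem_pull f n h Z.1 Z.2)
      (HilbOne.secGraph_mem f P x hx)⟩
    have hmd := addPoint f n H Z hZ H' Z' hZ' m hm
    obtain ⟨t, ht, htb, hP⟩ := SymProdLib.exists_isPullback_succ f n
    let t' : powOver f (n + 1) ⟶ powOver f n := Over.homMk t htb
    have hvb : v.left ≫ H.hom = WidePullback.base fun _ : Fin n => f := Over.w v
    have hcond : (t ≫ v.left) ≫ H.hom = WidePullback.π (fun _ : Fin (n + 1) => f) 0 ≫ f := by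
      rw [Category.assoc, hvb, htb, WidePullback.π_arrow]
    let w : (powOver f (n + 1)).left ⟶ pullback H.hom f := pullback.lift (t ≫ v.left) _ hcond
    have sq : IsPullback w t (pullback.fst H.hom f) v.left := by
      refine IsPullback.of_right ?_ (pullback.lift_fst _ _ _) (IsPullback.of_hasPullback H.hom f).flip
      rw [show w ≫ pullback.snd H.hom f = _ from pullback.lift_snd _ _ _, hvb]
      exact hP
    obtain ⟨⟨v1, v2, v3⟩, vd⟩ := hvd
    haveI := v1
    haveI := v2
    have hwd : Mor2.IsFinLocFreeOfDeg n.factorial w :=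
      ⟨⟨MorphismProperty.of_isPullback sq.flip v1, MorphismProperty.of_isPullback sq.flip v2,
        MorphismProperty.of_isPullback sq.flip v3⟩,
        fun y => (Scheme.Hom.finrank_of_isPullback _ _ _ _ sq.flip y).trans (vd _)⟩
    let W : powOver f (n + 1) ⟶ P := Over.homMk w (by
      show w ≫ pullback.fst H.hom f ≫ H.hom = _
      rw [pullback.lift_fst_assoc, Category.assoc, hvb, htb]
      rfl)
    have hWm : W ≫ m = u := by
      refine (hZ' (powOver f (n + 1)) ⟨tautDiv f (n + 1), prod_secGraph_mem f _ (n + 1) _⟩).unique ?_ hu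
      show HilbD.pull f (W ≫ m) Z'.1 = tautDiv f (n + 1)
      rw [← HilbOne.pull_pull, hm, HilbOne.pull_eq_comap, BlowUpLib.comap_mul, ← HilbOne.pull_eq_comap,
        ← HilbOne.pull_eq_comap, HilbOne.pull_pull, HilbOne.pull_secGraph]
      have e1 : W ≫ h = t' ≫ v := by
        ext
        exact pullback.lift_fst _ _ _
      have e2 : W.left ≫ x = WidePullback.π (fun _ : Fin (n + 1) => f) 0 := pullback.lift_snd _ _ _
      rw [e1, ← HilbOne.pull_pull, hv, pull_prod, tautDiv, Fin.prod_univ_succ, mul_comm]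
      simp only [e2]
      congr 1
      refine Finset.prod_congr rfl fun i _ => ?_
      simp only [show t'.left ≫ (tautSec f n i).1 = (tautSec f (n + 1) i.succ).1 from ht i]
    have hul : u.left = w ≫ m.left := (congrArg CommaMorphism.left hWm).symm
    rw [hul, Nat.factorial_succ, mul_comm]
    exact comp_deg w m.left hwd hmd

/-- Transport of a universal family along an isomorphism. -/
theorem universal_of_iso {d : ℕ} {H H' : Over S} {Z : HilbD.Obj f d H} (hZ : HilbD.IsUniversal f d H Z) (e : H' ⟶ H)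
    [IsIso e] : HilbD.IsUniversal f d H' ⟨HilbD.pull f e Z.1, HilbOne.mem_pull f d e Z.1 Z.2⟩ := by
  intro T Z'
  obtain ⟨g, hg, huniq⟩ := hZ T Z'
  refine ⟨g ≫ inv e, ?_, fun g' hg' => ?_⟩
  · show HilbD.pull f (g ≫ inv e) (HilbD.pull f e Z.1) = Z'.1
    rw [HilbOne.pull_pull, Category.assoc, IsIso.inv_hom_id, Category.comp_id]
    exact hg
  · have : g' ≫ e = g := huniq _ (by
      show HilbD.pull f (g' ≫ e) Z.1 = Z'.1
      rw [← HilbOne.pull_pull]
      exact hg')
    rw [← this, Category.assoc, IsIso.hom_inv_id, Category.comp_id]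

omit [IsSeparated f] in
/-- The symmetric power of a smooth proper curve represents the Hilbert functor of points. -/
theorem symPow_represents {Y : Scheme.{u}} [IsLocallyNoetherian S] [IsProper f] (hAF : SymProd.IsAF f)
    (n : ℕ) (q : SymProd.fibPow f n ⟶ Y) (g : Y ⟶ S) (hq : SymProd.IsSymProd f n q g) :
    ∃ D : HilbD.Obj f n (Over.mk g), HilbD.IsUniversal f n (Over.mk g) D ∧
      HilbD.pull f (Over.homMk q hq.over : powOver f n ⟶ Over.mk g) D.1 = tautDiv f n := by
  classical
  have hrep : ∀ e : ℕ, HilbD.Representable f e := fun e => Groth.Agent.S1166.result f e fun s x hx => by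
    obtain ⟨U, hU, hxU⟩ := hAF s (Finset.univ.image x) fun y hy => by
      obtain ⟨i, -, rfl⟩ := Finset.mem_image.1 hy
      exact hx i
    exact ⟨U, hU, fun i => hxU _ (Finset.mem_image_of_mem x (Finset.mem_univ i))⟩
  obtain ⟨H, Z, hZ⟩ := hrep n
  let hT : HilbD.Obj f n (powOver f n) := ⟨tautDiv f n, prod_secGraph_mem f _ n _⟩
  obtain ⟨u, hu, huniq⟩ := hZ (powOver f n) hT
  have hud := classifying_deg f hrep n H Z hZ u hu
  have hinv : ∀ σ : ULift.{u} (Equiv.Perm (Fin n)), (SymProd.permActU f n σ).hom ≫ u.left = u.left := by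
    intro σ
    let sg : powOver f n ⟶ powOver f n := Over.homMk (SymProd.permHom f n σ.down) (SymProd.permHom_base f n σ.down)
    have : sg ≫ u = u := huniq _ (by
      show HilbD.pull f (sg ≫ u) Z.1 = tautDiv f n
      rw [← HilbOne.pull_pull, show HilbD.pull f u Z.1 = tautDiv f n from hu, pull_prod]
      refine Fintype.prod_equiv σ.down.symm _ _ fun i => ?_
      simp only [show sg.left ≫ (tautSec f n i).1 = (tautSec f n (σ.down.symm i)).1 from SymProd.permHom_π f n σ.down i])
    exact (congrArg (· ≫ u.left) (SymProd.permActU_hom f n σ)).trans (congrArg CommaMorphism.left this)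
  obtain ⟨φ, hφ, -⟩ := QuotScheme.existsUnique_desc hq.isQuot u.left hinv
  have hφg : φ ≫ H.hom = g := by
    haveI := QuotScheme.epi hq.isQuot
    rw [← cancel_epi q, ← Category.assoc, hφ, hq.over]
    exact Over.w u
  obtain ⟨hflat, hfin, hlfp, hrank⟩ := SymCurve.flat_and_rank_global hAF hq
  haveI := hflat
  haveI := hfin
  haveI := hlfp
  haveI : Surjective q := ⟨QuotScheme.surjective hq.isQuot⟩
  haveI := (SymCurve.proper_and_smooth hAF hq).1
  haveI := Groth.Agent.S1167.result f n H Z hZ
  haveI : IsProper (φ ≫ H.hom) := by rw [hφg]; infer_instance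
  haveI : IsProper φ := IsProper.of_comp φ H.hom
  obtain ⟨⟨u1, u2, u3⟩, ud⟩ := hud
  haveI : LocallyQuasiFinite φ := LocallyQuasiFinite.of_finite_preimage_singleton φ fun y => by
    haveI := u1
    refine Set.Finite.subset ((u.left.finite_preimage_singleton y).image q) fun z hz => ?_
    obtain ⟨w, rfl⟩ := q.surjective z
    refine ⟨w, ?_, rfl⟩
    show u.left w = y
    rw [← hφ]
    exact hz
  haveI : IsFinite φ := IsFinite.of_isProper_of_locallyQuasiFinite φ
  haveI : Flat (q ≫ φ) := by rw [hφ]; exact u2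
  haveI : Flat φ := Bootstrap.flat_of_comp q φ
  haveI : LocallyOfFinitePresentation φ := by
    haveI : LocallyOfFinitePresentation (q ≫ φ) := by rw [hφ]; exact u3
    exact FppfSource.lfp q φ
  haveI : IsIso φ := φ.isIso_iff_finrank_eq.2 (funext fun y => by
    have h := finrank_comp_const q φ hrank y
    have hu' := ud y
    simp only [← hφ] at hu'
    rw [hu'] at h
    exact (Nat.eq_of_mul_eq_mul_left n.factorial_pos ((Nat.mul_one _).trans h)).symm)
  let e : Over.mk g ⟶ H := Over.homMk φ hφg
  haveI : IsIso ((Over.forget S).map e) := ‹IsIso φ›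
  haveI : IsIso e := isIso_of_reflects_iso e (Over.forget S)
  refine ⟨_, universal_of_iso f hZ e, ?_⟩
  rw [HilbOne.pull_pull]
  rw [show (Over.homMk q hq.over : powOver f n ⟶ Over.mk g) ≫ e = u by ext; exact hφ]
  exact hu

omit [SmoothOfRelativeDimension 1 f] [IsSeparated f] in
theorem comap_ker_of_iso {A B Z : Scheme.{u}} (σ : A ≅ B) (s : Z ⟶ B) : s.ker.comap σ.hom = (s ≫ σ.inv).ker := by
  rw [← Scheme.IdealSheafData.map_ker]
  refine le_antisymm (Scheme.IdealSheafData.le_map_iff_comap_le.2 ?_) ?_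
  · rw [← Scheme.IdealSheafData.comap_comp, Iso.inv_hom_id, Scheme.IdealSheafData.comap_id]
  · refine le_trans (le_of_eq ?_) (Scheme.IdealSheafData.comap_mono σ.hom
      (Scheme.IdealSheafData.comap_map_le (f := σ.inv) s.ker))
    beta_reduce
    rw [← Scheme.IdealSheafData.comap_comp, Iso.hom_inv_id, Scheme.IdealSheafData.comap_id]

omit [SmoothOfRelativeDimension 1 f] [IsSeparated f] in
theorem comap_top_eq {A B : Scheme.{u}} (m : A ⟶ B) : (⊤ : B.IdealSheafData).comap m = ⊤ :=
  BlowUpLib.comap_eq_top _ _ fun x => by rw [Scheme.IdealSheafData.support_top]; exact id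

omit [IsSeparated f] in
/-- The universal divisor on the symmetric power, seen in `Y ×_S X`. -/
theorem symPow_divisor {Y : Scheme.{u}} [IsLocallyNoetherian S] [IsProper f] (hAF : SymProd.IsAF f)
    (n : ℕ) (q : SymProd.fibPow f n ⟶ Y) (g : Y ⟶ S) (hq : SymProd.IsSymProd f n q g)
    (M : pullback (WidePullback.base fun _ : Fin n => f) f ⟶ pullback g f)
    (hM₁ : M ≫ pullback.fst g f = pullback.fst _ f ≫ q) (hM₂ : M ≫ pullback.snd g f = pullback.snd _ f) :
    (∃! J : (pullback g f).IdealSheafData, J.comap M =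
      ∏ i : Fin n, (pullback.lift (𝟙 (SymProd.fibPow f n)) (WidePullback.π (fun _ : Fin n => f) i)
        ((Category.id_comp _).trans (WidePullback.π_arrow (fun _ : Fin n => f) i).symm) :
          SymProd.fibPow f n ⟶ pullback (WidePullback.base fun _ : Fin n => f) f).ker) ∧
    ∀ J : (pullback g f).IdealSheafData, J.comap M =
      ∏ i : Fin n, (pullback.lift (𝟙 (SymProd.fibPow f n)) (WidePullback.π (fun _ : Fin n => f) i)
        ((Category.id_comp _).trans (WidePullback.π_arrow (fun _ : Fin n => f) i).symm) :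
          SymProd.fibPow f n ⟶ pullback (WidePullback.base fun _ : Fin n => f) f).ker →
      Mor2.IsFinLocFreeOfDeg n (J.subschemeι ≫ pullback.fst g f) := by
  obtain ⟨D, -, hD⟩ := symPow_represents f hAF n q g hq
  let σ := pullbackSymmetry g f
  let σ' := pullbackSymmetry (WidePullback.base fun _ : Fin n => f) f
  let q' : powOver f n ⟶ Over.mk g := Over.homMk q hq.over
  have hMσ : M ≫ σ.hom = σ'.hom ≫ PicF.XTmap f q' := by
    apply pullback.hom_ext
    · rw [Category.assoc, Category.assoc, show PicF.XTmap f q' ≫ pullback.fst f g = _ from HilbOne.XTmap_fst f q']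
      erw [pullbackSymmetry_hom_comp_fst, pullbackSymmetry_hom_comp_fst]
      exact hM₂
    · rw [Category.assoc, Category.assoc, show PicF.XTmap f q' ≫ pullback.snd f g = _ from HilbOne.XTmap_snd f q']
      erw [pullbackSymmetry_hom_comp_snd, pullbackSymmetry_hom_comp_snd_assoc]
      exact hM₁
  let J₀ : (pullback g f).IdealSheafData := D.1.comap σ.hom
  have hJ₀ : J₀.comap M = ∏ i : Fin n, (pullback.lift (𝟙 (SymProd.fibPow f n)) (WidePullback.π (fun _ : Fin n => f) i)
        ((Category.id_comp _).trans (WidePullback.π_arrow (fun _ : Fin n => f) i).symm) :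
          SymProd.fibPow f n ⟶ pullback (WidePullback.base fun _ : Fin n => f) f).ker := by
    rw [← Scheme.IdealSheafData.comap_comp, hMσ, Scheme.IdealSheafData.comap_comp, ← HilbOne.pull_eq_comap, hD]
    have : ∀ (m : ℕ) (I : Fin m → (PicF.XT f (powOver f n)).IdealSheafData),
        (∏ i, I i).comap σ'.hom = ∏ i, (I i).comap σ'.hom := by
      intro m
      induction m with
      | zero => intro I; rw [Finset.prod_of_isEmpty, Finset.prod_of_isEmpty]; exact comap_top_eq _
      | succ m ih => intro I; rw [Fin.prod_univ_succ, BlowUpLib.comap_mul, ih, Fin.prod_univ_succ]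
    rw [tautDiv, this n]
    refine Finset.prod_congr rfl fun i _ => ?_
    rw [HilbOne.secGraph_eq, comap_ker_of_iso]
    congr 1
    rw [Iso.comp_inv_eq]
    apply pullback.hom_ext
    · rw [Category.assoc]
      erw [pullbackSymmetry_hom_comp_fst]
      rw [HilbOne.sect_fst, pullback.lift_snd]
    · rw [Category.assoc]
      erw [pullbackSymmetry_hom_comp_snd]
      rw [HilbOne.sect_snd, pullback.lift_fst]
      rfl
  obtain ⟨hflat, hfin, hlfp, -⟩ := SymCurve.flat_and_rank_global hAF hq
  haveI := hflat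
  haveI := hfin
  haveI := hlfp
  haveI : Surjective q := ⟨QuotScheme.surjective hq.isQuot⟩
  have sq : IsPullback M (pullback.fst (WidePullback.base fun _ : Fin n => f) f) (pullback.fst g f) q := by
    refine IsPullback.of_right (h₁₂ := pullback.snd g f) (v₁₃ := f) (h₂₂ := g) ?_ hM₁ (IsPullback.of_hasPullback g f).flip
    rw [hM₂, hq.over]
    exact (IsPullback.of_hasPullback _ f).flip
  haveI : QuasiCompact M := MorphismProperty.of_isPullback sq.flip (P := @QuasiCompact) inferInstance
  haveI : Flat M := MorphismProperty.of_isPullback sq.flip (P := @Flat) inferInstance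
  haveI : Surjective M := MorphismProperty.of_isPullback sq.flip (P := @Surjective) inferInstance
  have hcov : Presieve.ofArrows (fun _ : PUnit.{u + 1} => pullback (WidePullback.base fun _ : Fin n => f) f) (fun _ => M) ∈
      Scheme.fpqcPrecoverage (pullback g f) := by
    rw [Presieve.ofArrows_pUnit]
    exact Scheme.Hom.singleton_mem_fpqcPrecoverage M
  obtain ⟨J, hJ, hu⟩ := FpqcDescent.existsUnique_descent hcov (fun _ => J₀.comap M) (fun _ _ => by
    change (J₀.comap M).comap (pullback.fst M M) = (J₀.comap M).comap (pullback.snd M M)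
    exact (Scheme.IdealSheafData.comap_comp J₀ _ _).symm.trans
      ((congrArg J₀.comap pullback.condition).trans (Scheme.IdealSheafData.comap_comp J₀ _ _)))
  have huniq : ∀ J', J'.comap M = J₀.comap M → J' = J₀ := fun J' h' =>
    (hu J' fun _ => h').trans (hu J₀ fun _ => rfl).symm
  refine ⟨⟨J₀, hJ₀, fun J' h' => huniq J' (h'.trans hJ₀.symm)⟩, fun J' h' => ?_⟩
  rw [huniq J' (h'.trans hJ₀.symm)]
  obtain ⟨⟨d1, d2, d3⟩, dd⟩ := D.2
  let p := D.1.subschemeι ≫ pullback.snd f g
  haveI : IsFinite p := d1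
  haveI : Flat p := d2
  haveI : LocallyOfFinitePresentation p := d3
  let k : J₀.subscheme ⟶ D.1.subscheme := (D.1.comapIso σ.hom).hom ≫ pullback.snd σ.hom D.1.subschemeι
  have hk : J₀.subschemeι ≫ pullback.fst g f = k ≫ p := by
    rw [← Scheme.IdealSheafData.comapIso_hom_fst D.1 σ.hom]
    simp only [k, p, Category.assoc]
    rw [← pullback.condition_assoc]
    simp [σ]
  haveI : IsIso k := inferInstance
  rw [hk]
  exact ⟨⟨inferInstance, inferInstance, inferInstance⟩, fun y => by rw [Scheme.Hom.finrank_comp_left_of_isIso]; exact dd y⟩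

end Groth.Agent.HilbSum
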