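import Groth.Agent.HilbSum.Sum
import Groth.Agent.PtBlow.Colon
import Groth.Agent.FlatCartier.Basic
import Mathlib

/-! # Differences of relative divisors on smooth curves -/

set_option autoImplicit false
set_option linter.style.haveILetI false
set_option backward.isDefEq.respectTransparency false

universe u

open CategoryTheory CategoryTheory.Limits AlgebraicGeometry TopologicalSpace

namespace Groth.Agent.HilbSum

variable {X S : Scheme.{u}}

/-- an effective Cartier ideal is finitely generated on every affine open -/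
theorem fg_ideal_of_cartier {I : X.IdealSheafData} (hI : BlowUp.IsEffCartierIdeal I) (U : X.affineOpens) :
    (I.ideal U).FG := by
  haveI := GrpdFit.lfp_subschemeι I fun x => by
    obtain ⟨V, hxV, g, -, hg⟩ := hI x
    exact ⟨V, hxV, hg ▸ Submodule.fg_span_singleton g⟩
  have h1 : Function.Surjective (I.subschemeι.app U.1).hom := I.subschemeι.app_surjective U.1 U.2
  have h2 : (I.subschemeι.app U.1).hom.FinitePresentation := by
    have := LocallyOfFinitePresentation.finitePresentation_appLE I.subschemeι U.2 (U.2.preimage _) le_rfl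
    rwa [← I.subschemeι.app_eq_appLE] at this
  have h3 : RingHom.ker (I.subschemeι.app U.1).hom = I.ideal U := I.ker_subschemeι_app U
  rw [← h3]
  algebraize [(I.subschemeι.app U.1).hom]
  exact Algebra.FinitePresentation.ker_fG_of_surjective (Algebra.ofId Γ(X, U.1) _) h1

variable (f : X ⟶ S) [SmoothOfRelativeDimension 1 f]

theorem exists_diff (I₁ I₂ : X.IdealSheafData) (hle : I₂ ≤ I₁) (d₁ d₂ : ℕ)
    (h₁ : Mor2.IsFinLocFreeOfDeg d₁ (I₁.subschemeι ≫ f)) (h₂ : Mor2.IsFinLocFreeOfDeg d₂ (I₂.subschemeι ≫ f)) :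
    ∃ I : X.IdealSheafData, Mor2.IsFinLocFreeOfDeg (d₂ - d₁) (I.subschemeι ≫ f) ∧ I₂ = I₁ * I := by
  obtain ⟨hc₁, hf₁⟩ := rel_of_finLocFree f I₁ h₁.1
  obtain ⟨hc₂, hf₂⟩ := rel_of_finLocFree f I₂ h₂.1
  let I := PtBlow.colon I₂ I₁ (fg_ideal_of_cartier hc₁)
  have key : ∀ x : X, ∃ (V : S.affineOpens) (U : X.affineOpens) (_ : x ∈ U.1) (_ : U.1 ≤ f ⁻¹ᵁ V.1)
      (a b : Γ(X, U.1)), a ∈ nonZeroDivisors Γ(X, U.1) ∧ I₁.ideal U = Ideal.span {a} ∧
        I₂.ideal U = Ideal.span {a * b} ∧ I.ideal U = Ideal.span {b} := by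
    intro x
    obtain ⟨V, U, hxU, e, a, c, ha, -, e₁, e₂⟩ := FlatCartier.exists_common hc₁ hc₂ f x
    obtain ⟨b, rfl⟩ := Ideal.mem_span_singleton.1 (e₁ ▸ hle U (e₂ ▸ Ideal.mem_span_singleton_self c))
    refine ⟨V, U, hxU, e, a, b, ha, e₁, e₂, le_antisymm (fun r hr => ?_) ?_⟩
    · have h := (PtBlow.mem_colon U r).1 hr a (e₁ ▸ Ideal.mem_span_singleton_self a)
      rw [e₂, Ideal.mem_span_singleton] at h
      obtain ⟨s, hs⟩ := h
      rw [Ideal.mem_span_singleton]
      exact ⟨s, (mul_cancel_left_mem_nonZeroDivisors ha).1 (by rw [mul_comm a r, hs, mul_assoc])⟩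
    · rw [Ideal.span_singleton_le_iff_mem]
      refine (PtBlow.mem_colon U b).2 fun l hl => ?_
      rw [e₁, Ideal.mem_span_singleton] at hl
      obtain ⟨s, rfl⟩ := hl
      rw [e₂, Ideal.mem_span_singleton]
      exact ⟨s, by ring⟩
  choose V U hxU eV a b ha e₁ e₂ e using key
  have heq : I₂ = I₁ * I := by
    refine Scheme.IdealSheafData.ext_of_iSup_eq_top U (eq_top_iff.2 fun x _ => Opens.mem_iSup.2 ⟨x, hxU x⟩) fun x => ?_
    rw [Scheme.IdealSheafData.ideal_mul, Pi.mul_apply, e₁, e, e₂, Ideal.span_singleton_mul_span_singleton]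
  have hc : BlowUp.IsEffCartierIdeal I := BlowUpLib.cartier_of_mul_right (heq ▸ hc₂)
  have hfl : Flat (I.subschemeι ≫ f) := FlatCartier.flat_subscheme fun x _ => by
    have hfa := FlatCartier.flat_quotient hf₁ (V x).2 (U x) (eV x)
    have hfab := FlatCartier.flat_quotient hf₂ (V x).2 (U x) (eV x)
    rw [e₁] at hfa
    rw [e₂] at hfab
    refine ⟨V x, U x, hxU x, eV x, ?_⟩
    rw [e]
    letI := (f.appLE (V x).1 (U x).1 (eV x)).hom.toAlgebra
    obtain ⟨i, q, hi, hex, hq⟩ := FlatCartier.exists_mul_sequence (R := Γ(S, (V x).1)) (a x) (b x) (ha x)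
    have : Module.Flat Γ(S, (V x).1) (Γ(X, (U x).1) ⧸ Ideal.span {a x}) := RingHom.flat_algebraMap_iff.1 hfa
    have : Module.Flat Γ(S, (V x).1) (Γ(X, (U x).1) ⧸ Ideal.span {a x * b x}) := RingHom.flat_algebraMap_iff.1 hfab
    exact RingHom.flat_algebraMap_iff.2 (FlatCartier.flat_left i q hi hex hq)
  obtain ⟨-, -, hfp⟩ := (iff_lqf f I).1 ⟨hc, hfl⟩
  have hleI : I₂ ≤ I := fun U => by
    rw [show I₂.ideal U = (I₁ * I).ideal U from congrArg (fun J => J.ideal U) heq, Scheme.IdealSheafData.ideal_mul,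
      Pi.mul_apply]
    exact Ideal.mul_le_right
  haveI := h₂.1.1
  have hfin : IsFinite (I.subschemeι ≫ f) := by
    rw [← Scheme.IdealSheafData.inclusion_subschemeι hleI, Category.assoc]
    infer_instance
  have h : Mor2.IsFinLocFree (I.subschemeι ≫ f) := ⟨hfin, hfl, hfp⟩
  refine ⟨I, ⟨h, fun s => ?_⟩, heq⟩
  have := finrank_mul f I₁ I h₁.1 h (heq ▸ h₂.1) s
  rw [← heq, h₁.2, h₂.2] at this
  omega

end Groth.Agent.HilbSum
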