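import Groth.Agent.HilbSum.AddPoint
import Groth.Prelude.Def_W4c6dblnestedhilbptsFlags
import Mathlib

/-! # Flags of relative divisors and their edge data -/

set_option autoImplicit false
set_option linter.style.haveILetI false
set_option backward.isDefEq.respectTransparency false

universe u

open CategoryTheory CategoryTheory.Limits AlgebraicGeometry TopologicalSpace

namespace Groth.Agent.HilbSum

variable {X S : Scheme.{u}} (f : X ⟶ S)

theorem mul_le_fst (I J : X.IdealSheafData) : I * J ≤ I := fun U => by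
  rw [Scheme.IdealSheafData.ideal_mul, Pi.mul_apply]; exact Ideal.mul_le_left

theorem eq_top_of_deg_zero {I : X.IdealSheafData} (h : Mor2.IsFinLocFreeOfDeg 0 (I.subschemeι ≫ f)) : I = ⊤ := by
  obtain ⟨⟨h1, h2, -⟩, hd⟩ := h
  haveI := h1
  haveI := h2
  rw [← Scheme.IdealSheafData.support_eq_bot_iff]
  refine Closeds.ext (Set.eq_empty_of_forall_notMem fun x hx => ?_)
  obtain ⟨z, rfl⟩ : x ∈ Set.range I.subschemeι := by rw [I.range_subschemeι]; exact hx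
  exact absurd ((I.subschemeι ≫ f).one_le_finrank_map z) (by rw [hd]; omega)

variable [SmoothOfRelativeDimension 1 f]

theorem cartier_of_deg {I : X.IdealSheafData} {d : ℕ} (h : Mor2.IsFinLocFreeOfDeg d (I.subschemeι ≫ f)) :
    BlowUp.IsEffCartierIdeal I := (rel_of_finLocFree f I h.1).1

/-- Nested divisors of the same degree are equal. -/
theorem eq_of_le {I J : X.IdealSheafData} {d : ℕ} (hle : J ≤ I) (h₁ : Mor2.IsFinLocFreeOfDeg d (I.subschemeι ≫ f))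
    (h₂ : Mor2.IsFinLocFreeOfDeg d (J.subschemeι ≫ f)) : J = I := by
  obtain ⟨K, hK, e⟩ := exists_diff f I J hle d d h₁ h₂
  rw [Nat.sub_self] at hK
  rw [e, eq_top_of_deg_zero f hK]
  refine le_antisymm (mul_le_fst _ _) fun U => ?_
  rw [Scheme.IdealSheafData.ideal_mul, Pi.mul_apply, Scheme.IdealSheafData.ideal_top, Pi.top_apply, Ideal.mul_top]

variable {μ : YoungDiagram} {n : ℕ × ℕ → ℕ}

theorem up_le {i j : ℕ} : ((i - 1, j) : ℕ × ℕ) ≤ (i, j) := ⟨Nat.sub_le i 1, le_rfl⟩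

theorem left_le {i j : ℕ} : ((i, j - 1) : ℕ × ℕ) ≤ (i, j) := ⟨le_rfl, Nat.sub_le j 1⟩

open HilbD in
theorem edges_of_flag (h00 : ((0, 0) : ℕ × ℕ) ∈ μ)
    (Z : ∀ c : ℕ × ℕ, c ∈ μ → X.IdealSheafData) (hZ : HilbD.IsDnFlag f μ n Z) :
    (∃! E : HilbD.DnEdgeData μ X, E.IsOfType f n ∧ E.IsEdgesOf h00 Z) ∧
      ∀ E : HilbD.DnEdgeData μ X, E.IsOfType f n → E.IsEdgesOf h00 Z →
        ∀ (c : ℕ × ℕ) (hc : c ∈ μ) (hi : 1 ≤ c.1) (hj : 1 ≤ c.2), E.gammaOne c hc hi hj = E.gammaTwo c hc hi hj := by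
  obtain ⟨hdeg, hmon⟩ := hZ
  choose V hV eV using fun (c : ℕ × ℕ) (hc : c ∈ μ) => exists_diff f _ _
    (hmon _ c (mem_up hc) hc up_le) _ _ (hdeg _ (mem_up hc)) (hdeg c hc)
  choose W hW eW using fun (c : ℕ × ℕ) (hc : c ∈ μ) => exists_diff f _ _
    (hmon _ c (mem_left hc) hc left_le) _ _ (hdeg _ (mem_left hc)) (hdeg c hc)
  refine ⟨⟨⟨Z (0, 0) h00, fun c hc _ => V c hc, fun c hc _ => W c hc⟩, ⟨⟨hdeg _ _, fun c hc _ => hV c hc,
    fun c hc _ => hW c hc⟩, rfl, fun c hc _ => eV c hc, fun c hc _ => eW c hc⟩, ?_⟩, ?_⟩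
  · rintro E ⟨-, hb, hv, hh⟩
    ext1
    · exact hb.symm
    · funext c hc hi
      exact mul_left_cancel_cartier (cartier_of_deg f (hdeg _ (mem_up hc))) ((hv c hc hi).symm.trans (eV c hc))
    · funext c hc hj
      exact mul_left_cancel_cartier (cartier_of_deg f (hdeg _ (mem_left hc))) ((hh c hc hj).symm.trans (eW c hc))
  · rintro E - ⟨-, hv, hh⟩ c hc hi hj
    refine mul_left_cancel_cartier (cartier_of_deg f (hdeg _ (mem_up (mem_left hc)))) ?_
    have e1 : Z (c.1 - 1, c.2) (mem_up hc) = Z (c.1 - 1, c.2 - 1) (mem_up (mem_left hc)) * E.horiz (c.1 - 1, c.2) (mem_up hc) hj :=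
      hh (c.1 - 1, c.2) (mem_up hc) hj
    have e2 : Z (c.1, c.2 - 1) (mem_left hc) = Z (c.1 - 1, c.2 - 1) (mem_up (mem_left hc)) * E.vert (c.1, c.2 - 1) (mem_left hc) hi :=
      hv (c.1, c.2 - 1) (mem_left hc) hi
    have e := (hv c hc hi).symm.trans (hh c hc hj)
    rw [e1, e2] at e
    simp only [HilbD.DnEdgeData.gammaOne, HilbD.DnEdgeData.gammaTwo]
    rw [mul_comm (E.vert c hc hi), mul_comm (E.horiz c hc hj), ← mul_assoc, ← mul_assoc, e]

open HilbD in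
/-- the divisors along the first column -/
noncomputable def colZ (E : HilbD.DnEdgeData μ X) : ∀ i : ℕ, ((i, 0) : ℕ × ℕ) ∈ μ → X.IdealSheafData
  | 0, _ => E.base
  | i + 1, h => colZ E i (mem_up h) * E.vert (i + 1, 0) h (Nat.le_add_left 1 i)

open HilbD in
/-- the divisors of edge data -/
noncomputable def allZ (E : HilbD.DnEdgeData μ X) : ∀ i j : ℕ, ((i, j) : ℕ × ℕ) ∈ μ → X.IdealSheafData
  | i, 0, h => colZ E i h
  | i, j + 1, h => allZ E i j (mem_left h) * E.horiz (i, j + 1) h (Nat.le_add_left 1 j)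

open HilbD in
theorem flag_of_edges (h00 : ((0, 0) : ℕ × ℕ) ∈ μ) (hn : HilbD.IsRevPlanePartition μ n)
    (E : HilbD.DnEdgeData μ X) (hE : E.IsOfType f n)
    (hcomm : ∀ (c : ℕ × ℕ) (hc : c ∈ μ) (hi : 1 ≤ c.1) (hj : 1 ≤ c.2), E.gammaOne c hc hi hj ≤ E.gammaTwo c hc hi hj) :
    ∃! Z : ∀ c : ℕ × ℕ, c ∈ μ → X.IdealSheafData, HilbD.IsDnFlag f μ n Z ∧ E.IsEdgesOf h00 Z := by
  obtain ⟨hb, hv, hh⟩ := hE
  have hγ : ∀ (c : ℕ × ℕ) (hc : c ∈ μ) (hi : 1 ≤ c.1) (hj : 1 ≤ c.2), E.gammaOne c hc hi hj = E.gammaTwo c hc hi hj := by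
    intro c hc hi hj
    have m1 : n (c.1 - 1, c.2 - 1) ≤ n (c.1 - 1, c.2) :=
      hn (mem_up (mem_left hc)) (mem_up hc) left_le
    have m2 : n (c.1 - 1, c.2) ≤ n c := hn (mem_up hc) hc up_le
    have m3 : n (c.1 - 1, c.2 - 1) ≤ n (c.1, c.2 - 1) :=
      hn (mem_up (mem_left hc)) (mem_left hc) up_le
    have m4 : n (c.1, c.2 - 1) ≤ n c := hn (mem_left hc) hc left_le
    have h1 := finLocFree_mul f _ _ _ _ (hv c hc hi) (hh (c.1 - 1, c.2) (mem_up hc) hj)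
    have h2 := finLocFree_mul f _ _ _ _ (hh c hc hj) (hv (c.1, c.2 - 1) (mem_left hc) hi)
    simp only at h1 h2
    rw [show n c - n (c.1, c.2 - 1) + (n (c.1, c.2 - 1) - n (c.1 - 1, c.2 - 1)) = n c - n (c.1 - 1, c.2 - 1) by omega] at h2
    rw [show n c - n (c.1 - 1, c.2) + (n (c.1 - 1, c.2) - n (c.1 - 1, c.2 - 1)) = n c - n (c.1 - 1, c.2 - 1) by omega] at h1
    exact eq_of_le f (hcomm c hc hi hj) h2 h1
  let Z : ∀ c : ℕ × ℕ, c ∈ μ → X.IdealSheafData := fun c hc => allZ E c.1 c.2 hc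
  have hedgeH : ∀ (c : ℕ × ℕ) (hc : c ∈ μ) (hj : 1 ≤ c.2), Z c hc = Z (c.1, c.2 - 1) (mem_left hc) * E.horiz c hc hj := by
    rintro ⟨i, j⟩ hc hj
    obtain ⟨j, rfl⟩ : ∃ k, j = k + 1 := ⟨j - 1, by simp only at hj; omega⟩
    exact allZ.eq_2 E i j hc
  have hedgeV : ∀ (j i : ℕ) (hc : ((i, j) : ℕ × ℕ) ∈ μ) (hi : 1 ≤ i), Z (i, j) hc = Z (i - 1, j) (mem_up hc) * E.vert (i, j) hc hi := by
    intro j
    induction j with
    | zero =>
      intro i hc hi
      obtain ⟨i, rfl⟩ : ∃ k, i = k + 1 := ⟨i - 1, by omega⟩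
      show allZ E (i + 1) 0 hc = allZ E i 0 _ * _
      rw [allZ.eq_1, allZ.eq_1, colZ.eq_2]
    | succ j ih =>
      intro i hc hi
      rw [hedgeH (i, j + 1) hc (Nat.le_add_left 1 j), hedgeH (i - 1, j + 1) (mem_up hc) (Nat.le_add_left 1 j)]
      show Z (i, j) _ * _ = Z (i - 1, j) _ * _ * _
      rw [ih i (mem_left hc) hi, mul_assoc, mul_assoc]
      congr 1
      have := hγ (i, j + 1) hc hi (Nat.le_add_left 1 j)
      simp only [HilbD.DnEdgeData.gammaOne, HilbD.DnEdgeData.gammaTwo] at this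
      exact ((mul_comm _ _).trans this.symm).trans (mul_comm _ _)
  have hdegZ : ∀ (j i : ℕ) (hc : ((i, j) : ℕ × ℕ) ∈ μ), Mor2.IsFinLocFreeOfDeg (n (i, j)) ((Z (i, j) hc).subschemeι ≫ f) := by
    intro j
    induction j with
    | zero =>
      intro i
      induction i with
      | zero =>
        intro hc
        show Mor2.IsFinLocFreeOfDeg _ ((allZ E 0 0 hc).subschemeι ≫ f)
        rw [allZ.eq_1, colZ.eq_1]
        exact hb
      | succ i ih =>
        intro hc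
        rw [hedgeV 0 (i + 1) hc (Nat.le_add_left 1 i)]
        have := finLocFree_mul f _ _ _ _ (ih (mem_up hc)) (hv (i + 1, 0) hc (Nat.le_add_left 1 i))
        have m : n (i, 0) ≤ n (i + 1, 0) := hn (mem_up hc) hc ⟨Nat.le_succ i, le_rfl⟩
        rwa [show n ((i + 1, 0).1 - 1, ((i + 1, 0) : ℕ × ℕ).2) = n (i, 0) from rfl, Nat.add_sub_cancel' m] at this
    | succ j ih =>
      intro i hc
      rw [hedgeH (i, j + 1) hc (Nat.le_add_left 1 j)]
      have := finLocFree_mul f _ _ _ _ (ih i (mem_left hc)) (hh (i, j + 1) hc (Nat.le_add_left 1 j))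
      have m : n (i, j) ≤ n (i, j + 1) := hn (mem_left hc) hc ⟨le_rfl, Nat.le_succ j⟩
      rwa [show n ((i, j + 1).1, ((i, j + 1) : ℕ × ℕ).2 - 1) = n (i, j) from rfl, Nat.add_sub_cancel' m] at this
  have hmono : ∀ (c c' : ℕ × ℕ) (hc : c ∈ μ) (hc' : c' ∈ μ), c ≤ c' → Z c' hc' ≤ Z c hc := by
    rintro ⟨i, j⟩ ⟨i', j'⟩ hc hc' ⟨hi, hj⟩
    simp only at hi hj
    obtain ⟨a, rfl⟩ := Nat.le.dest hi
    obtain ⟨b, rfl⟩ := Nat.le.dest hj
    clear hi hj
    induction b with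
    | zero =>
      induction a with
      | zero => exact le_rfl
      | succ a ih =>
        rw [hedgeV _ (i + (a + 1)) hc' (by omega)]
        exact (mul_le_fst _ _).trans (ih (mem_up hc'))
    | succ b ih =>
      rw [hedgeH (i + a, j + (b + 1)) hc' (show 1 ≤ j + (b + 1) by omega)]
      exact (mul_le_fst _ _).trans (ih (mem_left hc'))
  refine ⟨Z, ⟨⟨fun c hc => hdegZ c.2 c.1 hc, hmono⟩, allZ.eq_1 E 0 h00 |>.trans (colZ.eq_1 E h00),
    fun c hc hi => hedgeV c.2 c.1 hc hi, hedgeH⟩, ?_⟩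
  rintro Z' ⟨-, e0, eV, eH⟩
  have key : ∀ (j i : ℕ) (hc : ((i, j) : ℕ × ℕ) ∈ μ), Z' (i, j) hc = Z (i, j) hc := by
    intro j
    induction j with
    | zero =>
      intro i
      induction i with
      | zero => intro hc; exact e0.trans ((allZ.eq_1 E 0 hc).trans (colZ.eq_1 E hc)).symm
      | succ i ih =>
        intro hc
        rw [hedgeV 0 (i + 1) hc (Nat.le_add_left 1 i), eV (i + 1, 0) hc (Nat.le_add_left 1 i)]
        exact congrArg (· * _) (ih (mem_up hc))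
    | succ j ih =>
      intro i hc
      rw [hedgeH (i, j + 1) hc (Nat.le_add_left 1 j), eH (i, j + 1) hc (Nat.le_add_left 1 j)]
      exact congrArg (· * _) (ih i (mem_left hc))
  funext c hc
  exact key c.2 c.1 hc

end Groth.Agent.HilbSum
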