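import Groth.Agent.HilbSum.Flags
import Groth.Agent.S0115
import Groth.Agent.S1167
import Groth.Agent.GenDegree.Basic
import Groth.Prelude.Def_HilbD
import Mathlib

/-! # Smoothness and properness of the Hilbert scheme of points of a smooth curve -/

set_option autoImplicit false
set_option linter.style.haveILetI false
set_option backward.isDefEq.respectTransparency false

universe u

open CategoryTheory CategoryTheory.Limits AlgebraicGeometry TopologicalSpace

namespace Groth.Agent.HilbSum

theorem finLocFree_of_isEmpty {Z S : Scheme.{u}} [IsEmpty Z] (q : Z ⟶ S) : Mor2.IsFinLocFreeOfDeg 0 q := by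
  refine ⟨⟨inferInstance, inferInstance, inferInstance⟩, fun s => ?_⟩
  have sq := IsPullback.of_hasPullback q (S.fromSpecResidueField s)
  let p : Spec (S.residueField s) := IsLocalRing.closedPoint (S.residueField s)
  refine Eq.trans (congrArg q.finrank (S.fromSpecResidueField_apply s p).symm) ?_
  refine (Scheme.Hom.finrank_of_isPullback _ _ _ _ sq p).symm.trans ?_
  haveI : IsFinite (pullback.snd q (S.fromSpecResidueField s)) := inferInstance
  haveI : IsEmpty ↥(pullback q (S.fromSpecResidueField s)) :=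
    (pullback.fst q (S.fromSpecResidueField s)).base.hom.1.isEmpty
  rw [GenDegree.finrank_eq_finrank_sections (K := S.residueField s) (pullback.snd q (S.fromSpecResidueField s)) p]
  letI := ((Scheme.ΓSpecIso (CommRingCat.of (S.residueField s))).inv ≫
    (pullback.snd q (S.fromSpecResidueField s)).appTop).hom.toAlgebra
  exact Module.finrank_zero_of_subsingleton

variable {X S : Scheme.{u}} (f : X ⟶ S)

theorem top_mem_zero (T : Over S) :
    Mor2.IsFinLocFreeOfDeg 0 ((⊤ : (PicF.XT f T).IdealSheafData).subschemeι ≫ PicF.XTproj f T) := by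
  haveI : IsEmpty ↥((⊤ : (PicF.XT f T).IdealSheafData).subscheme) := by
    refine ⟨fun z => ?_⟩
    have : (⊤ : (PicF.XT f T).IdealSheafData).subschemeι z ∈ Set.range (⊤ : (PicF.XT f T).IdealSheafData).subschemeι :=
      ⟨z, rfl⟩
    rw [Scheme.IdealSheafData.range_subschemeι, Scheme.IdealSheafData.support_top] at this
    exact this
  exact finLocFree_of_isEmpty _

theorem isIso_of_universal_zero (H : Over S) (Z : HilbD.Obj f 0 H) (hZ : HilbD.IsUniversal f 0 H Z) :
    IsIso H.hom := by
  let T : Over S := Over.mk (𝟙 S)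
  obtain ⟨g, -, -⟩ := hZ T ⟨⊤, top_mem_zero f T⟩
  have huniq : ∀ a b : H ⟶ H, a = b := fun a b =>
    (hZ H ⟨⊤, top_mem_zero f H⟩).unique (eq_top_of_deg_zero _ (HilbOne.mem_pull f 0 a Z.1 Z.2))
      (eq_top_of_deg_zero _ (HilbOne.mem_pull f 0 b Z.1 Z.2))
  refine ⟨g.left, ?_, Over.w g⟩
  have h := huniq (Over.homMk H.hom (Category.comp_id _) ≫ g) (𝟙 H)
  exact congrArg CommaMorphism.left h

variable [SmoothOfRelativeDimension 1 f] [IsSeparated f]

/-- The step from `H_d ×_S X` to `H_{d+1}`. -/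
theorem exists_step (d : ℕ) (H : Over S) (Z : HilbD.Obj f d H) (hZ : HilbD.IsUniversal f d H Z)
    (H' : Over S) (Z' : HilbD.Obj f (d + 1) H') (hZ' : HilbD.IsUniversal f (d + 1) H' Z') :
    ∃ m : pullback H.hom f ⟶ H'.left, Surjective m ∧ Flat m ∧ LocallyOfFinitePresentation m ∧
      m ≫ H'.hom = pullback.fst H.hom f ≫ H.hom := by
  let P : Over S := Over.mk (pullback.fst H.hom f ≫ H.hom)
  let h : P ⟶ H := Over.homMk (pullback.fst H.hom f) rfl
  let x : P.left ⟶ X := pullback.snd H.hom f
  have hx : x ≫ f = P.hom := pullback.condition.symm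
  haveI := smooth_XTproj f P
  have hdeg := finLocFree_mul (pullback.snd f P.hom) _ _ d 1 (HilbOne.mem_pull f d h Z.1 Z.2)
    (HilbOne.secGraph_mem f P x hx)
  obtain ⟨m, hm, -⟩ := hZ' P ⟨_, hdeg⟩
  obtain ⟨⟨h1, h2, h3⟩, hd⟩ := addPoint f d H Z hZ H' Z' hZ' m hm
  haveI := h1
  haveI := h2
  exact ⟨m.left, m.left.one_le_finrank_iff_surjective.1 (fun y => by rw [Pi.one_apply, hd]; exact Nat.le_add_left 1 d), h2, h3, Over.w m⟩

theorem smooth_hilb (hrep : ∀ e : ℕ, HilbD.Representable f e) : ∀ (d : ℕ) (H : Over S) (Z : HilbD.Obj f d H),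
    HilbD.IsUniversal f d H Z → Smooth H.hom
  | 0, H, Z, hZ => by
    haveI := isIso_of_universal_zero f H Z hZ
    infer_instance
  | d + 1, H', Z', hZ' => by
    obtain ⟨H, Z, hZ⟩ := hrep d
    haveI := smooth_hilb hrep d H Z hZ
    haveI : Smooth f := SmoothOfRelativeDimension.smooth 1 f
    obtain ⟨m, hs, hfl, hfp, hm⟩ := exists_step f d H Z hZ H' Z' hZ'
    haveI : Smooth (m ≫ H'.hom) := by rw [hm]; infer_instance
    exact Groth.Agent.S0115.result m H'.hom

theorem proper_hilb [IsProper f] (hrep : ∀ e : ℕ, HilbD.Representable f e) : ∀ (d : ℕ) (H : Over S) (Z : HilbD.Obj f d H),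
    HilbD.IsUniversal f d H Z → IsProper H.hom
  | 0, H, Z, hZ => by
    haveI := isIso_of_universal_zero f H Z hZ
    infer_instance
  | d + 1, H', Z', hZ' => by
    obtain ⟨H, Z, hZ⟩ := hrep d
    haveI := proper_hilb hrep d H Z hZ
    haveI : Smooth H'.hom := smooth_hilb f hrep (d + 1) H' Z' hZ'
    obtain ⟨m, hs, hfl, hfp, hm⟩ := exists_step f d H Z hZ H' Z' hZ'
    haveI : UniversallyClosed (m ≫ H'.hom) := by rw [hm]; infer_instance
    haveI := UniversallyClosed.of_comp_surjective m H'.hom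
    haveI := Groth.Agent.S1167.result f (d + 1) H' Z' hZ'
    exact { }

end Groth.Agent.HilbSum
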