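import Groth.Agent.HilbSum.Diff
import Groth.Agent.HilbOne.Basic
import Groth.Agent.HilbOne.Separated
import Groth.Prelude.Def_HilbD
import Mathlib

/-! # Adding a point to the universal divisor -/

set_option autoImplicit false
set_option linter.style.haveILetI false
set_option backward.isDefEq.respectTransparency false

universe u

open CategoryTheory CategoryTheory.Limits AlgebraicGeometry TopologicalSpace

namespace Groth.Agent.HilbSum

theorem mul_left_cancel_cartier {X : Scheme.{u}} {I A B : X.IdealSheafData} (hI : BlowUp.IsEffCartierIdeal I)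
    (h : I * A = I * B) : A = B := by
  choose U hxU a ha e using hI
  refine Scheme.IdealSheafData.ext_of_iSup_eq_top U (eq_top_iff.2 fun x _ => Opens.mem_iSup.2 ⟨x, hxU x⟩) fun x => ?_
  have h' : (I * A).ideal (U x) = (I * B).ideal (U x) := by rw [h]
  rw [Scheme.IdealSheafData.ideal_mul, Scheme.IdealSheafData.ideal_mul, Pi.mul_apply, Pi.mul_apply, e] at h'
  refine le_antisymm (fun r hr => ?_) (fun r hr => ?_)
  · obtain ⟨t, ht, htr⟩ := Ideal.mem_span_singleton_mul.1 (h' ▸ Ideal.mul_mem_mul (Ideal.mem_span_singleton_self (a x)) hr)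
    exact (mul_cancel_left_mem_nonZeroDivisors (ha x)).1 htr ▸ ht
  · obtain ⟨t, ht, htr⟩ := Ideal.mem_span_singleton_mul.1 (h'.symm ▸ Ideal.mul_mem_mul (Ideal.mem_span_singleton_self (a x)) hr)
    exact (mul_cancel_left_mem_nonZeroDivisors (ha x)).1 htr ▸ ht

variable {X S : Scheme.{u}} (f : X ⟶ S) [SmoothOfRelativeDimension 1 f] [IsSeparated f]

theorem smooth_XTproj (T : Over S) : SmoothOfRelativeDimension 1 (pullback.snd f T.hom) :=
  haveI := smoothOfRelativeDimension_isStableUnderBaseChange (n := 1)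
  MorphismProperty.pullback_snd (P := @SmoothOfRelativeDimension 1) _ _ inferInstance

omit [SmoothOfRelativeDimension 1 f] in
theorem comap_le_secGraph {T T' : Over S} (g : T' ⟶ T) (I : (PicF.XT f T).IdealSheafData) (x : T'.left ⟶ X)
    (hx : x ≫ f = T'.hom) (k : T'.left ⟶ I.subscheme) (hk : k ≫ I.subschemeι = HilbOne.sect f T' x hx ≫ PicF.XTmap f g) :
    HilbD.pull f g I ≤ HilbD.secGraph f T' x hx := by
  rw [HilbOne.pull_eq_comap, HilbOne.secGraph_eq, ← Scheme.IdealSheafData.le_map_iff_comap_le,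
    Scheme.IdealSheafData.map_ker, ← hk]
  conv_lhs => rw [← I.ker_subschemeι]
  exact Scheme.Hom.le_ker_comp _ _

theorem addPoint (d : ℕ) (H : Over S) (Z : HilbD.Obj f d H) (hZ : HilbD.IsUniversal f d H Z)
    (H' : Over S) (Z' : HilbD.Obj f (d + 1) H') (hZ' : HilbD.IsUniversal f (d + 1) H' Z')
    (m : Over.mk (pullback.fst H.hom f ≫ H.hom) ⟶ H')
    (hm : HilbD.pull f m Z'.1 =
      HilbD.pull f (Over.homMk (pullback.fst H.hom f) rfl : Over.mk (pullback.fst H.hom f ≫ H.hom) ⟶ H) Z.1 *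
        HilbD.secGraph f (Over.mk (pullback.fst H.hom f ≫ H.hom)) (pullback.snd H.hom f) pullback.condition.symm) :
    Mor2.IsFinLocFreeOfDeg (d + 1) m.left := by
  let P : Over S := Over.mk (pullback.fst H.hom f ≫ H.hom)
  let h : P ⟶ H := Over.homMk (pullback.fst H.hom f) rfl
  let x : P.left ⟶ X := pullback.snd H.hom f
  have hx : x ≫ f = P.hom := pullback.condition.symm
  change HilbD.pull f m Z'.1 = HilbD.pull f h Z.1 * HilbD.secGraph f P x hx at hm
  let ι := Z'.1.subschemeι
  let p : Z'.1.subscheme ⟶ H'.left := ι ≫ PicF.XTproj f H'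
  let q : Z'.1.subscheme ⟶ X := ι ≫ pullback.fst f H'.hom
  have hqp : q ≫ f = p ≫ H'.hom := by
    simp only [q, p, Category.assoc]
    rw [pullback.condition]
  -- the forward map
  let k : P.left ⟶ Z'.1.subscheme := IsClosedImmersion.lift ι (HilbOne.sect f P x hx ≫ PicF.XTmap f m) (by
    rw [Scheme.IdealSheafData.ker_subschemeι, ← Scheme.IdealSheafData.map_ker,
      Scheme.IdealSheafData.le_map_iff_comap_le, ← HilbOne.pull_eq_comap, hm, ← HilbOne.secGraph_eq]
    intro U
    rw [Scheme.IdealSheafData.ideal_mul, Pi.mul_apply]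
    exact Ideal.mul_le_right)
  have hk : k ≫ ι = HilbOne.sect f P x hx ≫ PicF.XTmap f m := IsClosedImmersion.lift_fac ..
  have hkq : k ≫ q = x := by
    rw [← Category.assoc, hk, Category.assoc, HilbOne.XTmap_fst, HilbOne.sect_fst]
  have hkp : k ≫ p = m.left := by
    rw [← Category.assoc, hk, Category.assoc, HilbOne.XTmap_snd, ← Category.assoc, HilbOne.sect_snd, Category.id_comp]
  -- the difference over the universal divisor
  let D : Over S := Over.mk (p ≫ H'.hom)
  let π : D ⟶ H' := Over.homMk p rfl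
  let G := HilbD.secGraph f D q hqp
  haveI := smooth_XTproj f D
  have hG : Mor2.IsFinLocFreeOfDeg 1 (G.subschemeι ≫ PicF.XTproj f D) := HilbOne.secGraph_mem f D q hqp
  have hπ := HilbOne.mem_pull f (d + 1) π Z'.1 Z'.2
  have hle : HilbD.pull f π Z'.1 ≤ G := comap_le_secGraph f π Z'.1 q hqp (𝟙 _) (by
    rw [Category.id_comp]
    apply pullback.hom_ext
    · rw [Category.assoc, HilbOne.XTmap_fst, HilbOne.sect_fst]
    · rw [Category.assoc, HilbOne.XTmap_snd, ← Category.assoc, HilbOne.sect_snd]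
      exact (Category.id_comp p).symm)
  obtain ⟨K, hK, hKe⟩ := exists_diff (pullback.snd f D.hom) G (HilbD.pull f π Z'.1) hle 1 (d + 1) hG hπ
  rw [Nat.add_sub_cancel] at hK
  obtain ⟨g, hg, -⟩ := hZ D ⟨K, hK⟩
  change HilbD.pull f g Z.1 = K at hg
  let ψ : D.left ⟶ P.left := pullback.lift g.left q ((Over.w g).trans hqp.symm)
  let Ψ : D ⟶ P := Over.homMk ψ (by
    show ψ ≫ pullback.fst H.hom f ≫ H.hom = _
    rw [pullback.lift_fst_assoc]
    exact Over.w g)
  have hΨm : Ψ ≫ m = π := by
    refine (hZ' D ⟨HilbD.pull f π Z'.1, hπ⟩).unique ?_ rfl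
    show HilbD.pull f (Ψ ≫ m) Z'.1 = HilbD.pull f π Z'.1
    rw [← HilbOne.pull_pull, hm, HilbOne.pull_eq_comap, BlowUpLib.comap_mul, ← HilbOne.pull_eq_comap,
      ← HilbOne.pull_eq_comap, HilbOne.pull_pull, HilbOne.pull_secGraph, hKe]
    have e1 : Ψ ≫ h = g := by
      ext
      exact pullback.lift_fst ..
    have e2 : Ψ.left ≫ x = q := pullback.lift_snd ..
    simp only [e1, e2, hg]
    rw [mul_comm]
  have hψm : ψ ≫ m.left = p := congrArg CommaMorphism.left hΨm
  have hψk : ψ ≫ k = 𝟙 _ := by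
    rw [← cancel_mono ι, Category.assoc, hk, Category.id_comp]
    apply pullback.hom_ext
    · rw [Category.assoc, Category.assoc, HilbOne.XTmap_fst, HilbOne.sect_fst]
      exact pullback.lift_snd ..
    · rw [Category.assoc, Category.assoc, HilbOne.XTmap_snd, ← Category.assoc (HilbOne.sect f P x hx),
        HilbOne.sect_snd, Category.id_comp]
      exact hψm
  let Φ : P ⟶ D := Over.homMk k (by
    show k ≫ p ≫ H'.hom = P.hom
    rw [← Category.assoc, hkp]
    exact Over.w m)
  have hΦg : Φ ≫ g = h := by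
    refine (hZ P ⟨HilbD.pull f h Z.1, HilbOne.mem_pull f d h Z.1 Z.2⟩).unique ?_ rfl
    show HilbD.pull f (Φ ≫ g) Z.1 = HilbD.pull f h Z.1
    rw [← HilbOne.pull_pull, hg]
    haveI := smooth_XTproj f P
    refine mul_left_cancel_cartier
      (rel_of_finLocFree (pullback.snd f P.hom) _ (HilbOne.secGraph_mem f P x hx).1).1 ?_
    rw [mul_comm (HilbD.secGraph f P x hx) (HilbD.pull f h Z.1), ← hm, show m = Φ ≫ π by ext; exact hkp.symm,
      ← HilbOne.pull_pull, hKe, HilbOne.pull_eq_comap f Φ (G * K), BlowUpLib.comap_mul, ← HilbOne.pull_eq_comap,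
      ← HilbOne.pull_eq_comap, HilbOne.pull_secGraph]
    simp only [show Φ.left ≫ q = x from hkq]
  have hkψ : k ≫ ψ = 𝟙 _ := by
    apply pullback.hom_ext
    · rw [Category.assoc, pullback.lift_fst, Category.id_comp]
      exact congrArg CommaMorphism.left hΦg
    · rw [Category.assoc, pullback.lift_snd, Category.id_comp]
      exact hkq
  haveI : IsIso k := ⟨ψ, hkψ, hψk⟩
  obtain ⟨⟨h1, h2, h3⟩, hd⟩ := Z'.2
  haveI : IsFinite p := h1
  haveI : Flat p := h2
  haveI : LocallyOfFinitePresentation p := h3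
  rw [← hkp]
  exact ⟨⟨inferInstance, inferInstance, inferInstance⟩, fun y =>
    by rw [Scheme.Hom.finrank_comp_left_of_isIso]; exact hd y⟩

end Groth.Agent.HilbSum
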