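import Mathlib

/-! # Degrees of a sum of two locally principal ideals in an artinian algebra -/

set_option autoImplicit false
set_option linter.style.haveILetI false

universe u

namespace Groth.Agent.HilbSum

/-- Two ideals which are locally of the form `(a)`, `(b)` with `ab = 0` and `Ann a ⊆ (b)`. -/
def LocPair {C : Type u} [CommRing C] (K₁ K₂ : Ideal C) (q : Ideal C) [q.IsPrime] : Prop :=
  ∃ a b : Localization.AtPrime q, K₁.map (algebraMap C _) = Ideal.span {a} ∧
    K₂.map (algebraMap C _) = Ideal.span {b} ∧ a * b = 0 ∧ ∀ c, c * a = 0 → c ∈ Ideal.span {b}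

theorem exists_generator {C : Type u} [CommRing C] [IsNoetherianRing C] [Finite (MaximalSpectrum C)]
    (K : Ideal C) (h : ∀ (q : Ideal C) [q.IsMaximal], (K.map (algebraMap C (Localization.AtPrime q))).IsPrincipal) :
    ∃ c ∈ K, ∀ (q : Ideal C) [q.IsMaximal],
      K.map (algebraMap C (Localization.AtPrime q)) = Ideal.span {algebraMap C _ c} := by
  classical
  have h' : ∀ m : MaximalSpectrum C, ∃ c ∈ K,
      K.map (algebraMap C (Localization.AtPrime m.asIdeal)) = Ideal.span {algebraMap C _ c} := by
    intro m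
    obtain ⟨a, ha⟩ := h m.asIdeal
    have hmem : a ∈ K.map (algebraMap C (Localization.AtPrime m.asIdeal)) := by
      rw [ha]; exact Submodule.mem_span_singleton_self a
    obtain ⟨⟨⟨c, hc⟩, s⟩, hs⟩ := (IsLocalization.mem_map_algebraMap_iff m.asIdeal.primeCompl _).1 hmem
    refine ⟨c, hc, ?_⟩
    rw [ha, show algebraMap C (Localization.AtPrime m.asIdeal) c = a * algebraMap C _ (s : C) from hs.symm]
    exact (Ideal.span_singleton_mul_right_unit (IsLocalization.map_units (Localization.AtPrime m.asIdeal) s) a).symm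
  choose g hgK hg using h'
  have hcop : Pairwise fun i j : MaximalSpectrum C => IsCoprime i.asIdeal j.asIdeal := fun i j hij =>
    Ideal.isCoprime_iff_sup_eq.2 (i.isMaximal.coprime_of_ne j.isMaximal fun e => hij (MaximalSpectrum.ext e))
  haveI := Fintype.ofFinite (MaximalSpectrum C)
  choose e he using fun m : MaximalSpectrum C =>
    Ideal.exists_forall_sub_mem_ideal hcop (fun j => if j = m then (1 : C) else 0)
  refine ⟨∑ m, e m * g m, sum_mem fun m _ => K.mul_mem_left _ (hgK m), fun q _ => ?_⟩
  let m₀ : MaximalSpectrum C := ⟨q, inferInstance⟩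
  let R := Localization.AtPrime q
  let J := K.map (algebraMap C R)
  have hdiff : algebraMap C R (∑ m, e m * g m) - algebraMap C R (g m₀) ∈ IsLocalRing.maximalIdeal R • J := by
    rw [← map_sub, ← Finset.add_sum_erase _ _ (Finset.mem_univ m₀), add_sub_right_comm, ← sub_one_mul, map_add,
      map_mul, map_sum]
    refine add_mem (Ideal.mul_mem_mul ?_ (Ideal.mem_map_of_mem _ (hgK m₀))) (sum_mem fun m hm => ?_)
    · rw [IsLocalization.AtPrime.to_map_mem_maximal_iff R q]
      simpa using he m₀ m₀
    · rw [map_mul]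
      refine Ideal.mul_mem_mul ?_ (Ideal.mem_map_of_mem _ (hgK m))
      rw [IsLocalization.AtPrime.to_map_mem_maximal_iff R q]
      simpa [(Finset.ne_of_mem_erase hm).symm] using he m m₀
  refine le_antisymm ?_ ((Ideal.span_singleton_le_iff_mem _).2 (Ideal.mem_map_of_mem _ (sum_mem fun m _ => K.mul_mem_left _ (hgK m))))
  refine Submodule.le_of_le_smul_of_le_jacobson_bot (IsNoetherian.noetherian _) (IsLocalRing.maximalIdeal_le_jacobson _) ?_
  conv_lhs => rw [show K.map (algebraMap C R) = Ideal.span {algebraMap C R (g m₀)} from hg m₀]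
  rw [Ideal.span_singleton_le_iff_mem, ← sub_sub_self (algebraMap C R (∑ m, e m * g m)) (algebraMap C R (g m₀))]
  exact sub_mem (Submodule.mem_sup_left (Ideal.mem_span_singleton_self _)) (Submodule.mem_sup_right hdiff)

/-- Dimensions add up. -/
theorem finrank_add_of_local {k C : Type u} [Field k] [CommRing C] [Algebra k C] [Module.Finite k C] (K₁ K₂ : Ideal C)
    (h : ∀ (q : Ideal C) [q.IsMaximal], LocPair K₁ K₂ q) :
    Module.finrank k C = Module.finrank k (C ⧸ K₁) + Module.finrank k (C ⧸ K₂) := by
  haveI : IsNoetherianRing C := IsNoetherianRing.of_finite k C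
  haveI : IsArtinianRing C := IsArtinianRing.of_finite k C
  obtain ⟨c, hcK, hc⟩ := exists_generator K₁ fun q _ => by
    obtain ⟨a, b, ha, -⟩ := h q
    exact ⟨⟨a, ha⟩⟩
  have hK₁ : K₁ = Ideal.span {c} := Ideal.eq_of_localization_maximal fun q _ => by
    rw [Ideal.map_span, Set.image_singleton, hc q]
  have hann : ∀ x : C, x * c = 0 ↔ x ∈ K₂ := by
    intro x
    constructor
    · intro hx
      refine Ideal.mem_of_localization_maximal fun q hq => ?_
      obtain ⟨a, b, ha, hb, -, hab⟩ := h q
      obtain ⟨t, ht⟩ := Ideal.mem_span_singleton'.1 (show a ∈ Ideal.span {algebraMap C _ c} by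
        rw [← hc q, ha]; exact Ideal.mem_span_singleton_self a)
      rw [hb]
      refine hab _ ?_
      rw [← ht, mul_left_comm, ← map_mul, hx, map_zero, mul_zero]
    · intro hx
      refine eq_zero_of_localization _ fun q hq => ?_
      obtain ⟨a, b, ha, hb, hz, -⟩ := h q
      obtain ⟨t, ht⟩ := Ideal.mem_span_singleton'.1 (show algebraMap C _ c ∈ Ideal.span {a} by
        rw [← ha]; exact Ideal.mem_map_of_mem _ hcK)
      obtain ⟨s, hs⟩ := Ideal.mem_span_singleton'.1 (show algebraMap C _ x ∈ Ideal.span {b} by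
        rw [← hb]; exact Ideal.mem_map_of_mem _ hx)
      rw [map_mul, ← ht, ← hs]
      linear_combination (s * t) * hz
  let φ : C →ₗ[C] C := LinearMap.mulRight C c
  have hker : LinearMap.ker φ = K₂ := by
    ext x
    exact hann x
  have hrange : LinearMap.range φ = K₁ := by
    rw [hK₁]
    ext x
    rw [Ideal.mem_span_singleton']
    rfl
  let e : (C ⧸ K₂) ≃ₗ[k] K₁ :=
    ((Submodule.quotEquivOfEq _ _ hker.symm).trans (φ.quotKerEquivRange.trans (LinearEquiv.ofEq _ _ hrange))).restrictScalars k
  rw [e.finrank_eq, ← Submodule.finrank_quotient_add_finrank (K₁.restrictScalars k)]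
  rfl

end Groth.Agent.HilbSum
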