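import Groth.Agent.HilbSum.SmoothH
import Mathlib

/-! # Splitting a relative divisor into sections after an fppf base change -/

set_option autoImplicit false
set_option linter.style.haveILetI false
set_option backward.isDefEq.respectTransparency false

universe u

open CategoryTheory CategoryTheory.Limits AlgebraicGeometry TopologicalSpace

namespace Groth.Agent.HilbSum

variable {X S : Scheme.{u}} (f : X ⟶ S) [SmoothOfRelativeDimension 1 f] [IsSeparated f]

theorem exists_split : ∀ (d : ℕ) (T : Over S) (I : (PicF.XT f T).IdealSheafData),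
    Mor2.IsFinLocFreeOfDeg d (I.subschemeι ≫ PicF.XTproj f T) →
    ∃ (T' : Over S) (g : T' ⟶ T), Flat g.left ∧ Surjective g.left ∧ LocallyOfFinitePresentation g.left ∧
      ∃ x : Fin d → {x : T'.left ⟶ X // x ≫ f = T'.hom},
        HilbD.pull f g I = ∏ i, HilbD.secGraph f T' (x i).1 (x i).2
  | 0, T, I, hI => by
    refine ⟨T, 𝟙 T, inferInstanceAs (Flat (𝟙 _)), inferInstanceAs (Surjective (𝟙 _)),
      inferInstanceAs (LocallyOfFinitePresentation (𝟙 _)), Fin.elim0, ?_⟩
    rw [eq_top_of_deg_zero _ (HilbOne.mem_pull f 0 (𝟙 T) I hI), Finset.prod_of_isEmpty]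
    rfl
  | d + 1, T, I, hI => by
    obtain ⟨⟨h1, h2, h3⟩, hd⟩ := hI
    let p : I.subscheme ⟶ T.left := I.subschemeι ≫ pullback.snd f T.hom
    haveI : IsFinite p := h1
    haveI : Flat p := h2
    haveI : LocallyOfFinitePresentation p := h3
    haveI : Surjective p := p.one_le_finrank_iff_surjective.1 (fun y => by
      rw [Pi.one_apply, show p.finrank y = d + 1 from hd y]; exact Nat.le_add_left 1 d)
    let q : I.subscheme ⟶ X := I.subschemeι ≫ pullback.fst f T.hom
    let D : Over S := Over.mk (p ≫ T.hom)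
    have hqp : q ≫ f = D.hom := by
      simp only [q, Category.assoc]
      rw [pullback.condition]
      exact (Category.assoc _ _ _).symm
    let π : D ⟶ T := Over.homMk p rfl
    haveI := smooth_XTproj f D
    have hπ := HilbOne.mem_pull f (d + 1) π I ⟨⟨h1, h2, h3⟩, hd⟩
    have hle : HilbD.pull f π I ≤ HilbD.secGraph f D q hqp := comap_le_secGraph f π I q hqp (𝟙 _) (by
      rw [Category.id_comp]
      apply pullback.hom_ext
      · rw [Category.assoc, HilbOne.XTmap_fst, HilbOne.sect_fst]
      · rw [Category.assoc, HilbOne.XTmap_snd, ← Category.assoc, HilbOne.sect_snd]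
        exact (Category.id_comp p).symm)
    obtain ⟨K, hK, hKe⟩ := exists_diff (pullback.snd f D.hom) _ _ hle 1 (d + 1) (HilbOne.secGraph_mem f D q hqp) hπ
    rw [Nat.add_sub_cancel] at hK
    obtain ⟨T', g, g1, g2, g3, x, hx⟩ := exists_split d D K hK
    refine ⟨T', g ≫ π, inferInstanceAs (Flat (g.left ≫ p)), inferInstanceAs (Surjective (g.left ≫ p)),
      inferInstanceAs (LocallyOfFinitePresentation (g.left ≫ p)),
      Fin.cons ⟨g.left ≫ q, by rw [Category.assoc, hqp]; exact Over.w g⟩ x, ?_⟩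
    rw [← HilbOne.pull_pull, hKe, HilbOne.pull_eq_comap, BlowUpLib.comap_mul, ← HilbOne.pull_eq_comap,
      ← HilbOne.pull_eq_comap, HilbOne.pull_secGraph, hx, Fin.prod_univ_succ]
    rfl

/-- A relative divisor becomes a sum of sections after an fppf base change. -/
theorem exists_split_base (d : ℕ) (I : X.IdealSheafData) (hD : Mor2.IsFinLocFreeOfDeg d (I.subschemeι ≫ f)) :
    ∃ (S' : Scheme.{u}) (b : S' ⟶ S), Flat b ∧ Surjective b ∧ LocallyOfFinitePresentation b ∧
      ∃ σ : Fin d → (S' ⟶ pullback f b), (∀ i, σ i ≫ pullback.snd f b = 𝟙 S') ∧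
        (pullback.snd I.subschemeι (pullback.fst f b)).ker = ∏ i, (σ i).ker := by
  obtain ⟨⟨h1, h2, h3⟩, hd⟩ := hD
  let T : Over S := Over.mk (𝟙 S)
  let I₀ : (PicF.XT f T).IdealSheafData := I.comap (pullback.fst f T.hom)
  have sq := isPullback_comap f I T.hom
  have hI₀ : Mor2.IsFinLocFreeOfDeg d (I₀.subschemeι ≫ PicF.XTproj f T) := by
    haveI := h1
    haveI := h2
    exact ⟨⟨MorphismProperty.of_isPullback (P := @IsFinite) sq h1, MorphismProperty.of_isPullback (P := @Flat) sq h2,
      MorphismProperty.of_isPullback (P := @LocallyOfFinitePresentation) sq h3⟩,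
      fun y => (Scheme.Hom.finrank_of_isPullback _ _ _ _ sq y).trans (hd _)⟩
  obtain ⟨T', g, g1, g2, g3, x, hx⟩ := exists_split f d T I₀ hI₀
  have hb : T'.hom = g.left := ((Over.w g).symm.trans (Category.comp_id _))
  refine ⟨T'.left, T'.hom, hb ▸ g1, hb ▸ g2, hb ▸ g3, fun i => HilbOne.sect f T' (x i).1 (x i).2,
    fun i => HilbOne.sect_snd f T' _ _, ?_⟩
  refine Eq.trans ?_ hx
  rw [HilbOne.pull_eq_comap, ← Scheme.IdealSheafData.comap_comp, HilbOne.XTmap_fst, ← pullbackSymmetry_hom_comp_fst,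
    Scheme.Hom.ker_comp_of_isIso]
  rfl

end Groth.Agent.HilbSum
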